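import Cfsg.Agent.H817.CubeRank
import Cfsg.Agent.HN.Index
import Cfsg.Agent.HN.DistinctC

/-!
# The row `HN` of S5721 (helper817, task 240)

`|HN| = 273030912000000`, `H = 2.HS.2` of order `177408000` has rank nine.
-/

set_option autoImplicit false

namespace Cfsg.Agent.H817.CubeHN

open Cfsg.Agent.H383.Cube Cfsg.Agent.H817.CubeRank

theorem cubeBound_HN : CubeBound Cfsg.Spor.HN := by
  have hc : Nat.card Cfsg.Spor.HN = 273030912000000 := Cfsg.Agent.HN.Index.card_HN Cfsg.Agent.HN.DistinctC.hdis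
  have hfin : Finite Cfsg.Spor.HN := Nat.finite_of_card_ne_zero (by rw [hc]; norm_num)
  refine CubeRank.CubeBound.of_cover Cfsg.Agent.HN.NormalH.H Cfsg.Agent.HN.DCover.w9 ?_ ?_
  · intro g
    obtain ⟨i, hi⟩ := Cfsg.Agent.HN.Index.covers g
    rw [DoubleCoset.mem_doubleCoset] at hi
    exact ⟨i, hi⟩
  · rw [hc, Cfsg.Agent.HN.Index.card_H]
    norm_num

/-- **row `HN`** -/
theorem cube_HN {G : Type*} [Group G] (h : Cfsg.Spor.IsoHN G) : CubeBound G := by
  obtain ⟨e⟩ := h
  exact CubeBound.congr e.symm cubeBound_HN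

end Cfsg.Agent.H817.CubeHN
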