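import Cfsg.Agent.H483.Rad23.Base
import Cfsg.Agent.H959.Rad3.Iface
import Cfsg.Agent.CpAut.TwoAll
import Cfsg.Agent.KFacts.HS.DFour

/-!
# Radical automorphisms of order two of `HS` (helper817, S3832, S4336)
-/

set_option autoImplicit false

namespace Cfsg.Agent.H817.RadHS

open Subgroup Cfsg
open Cfsg.Agent.HN Cfsg.Agent.HN.Pres Cfsg.Agent.HN.HS100 Cfsg.Agent.HN.P1408 Cfsg.Agent.HN.H0Basic
open Cfsg.Agent.KFacts.HS Cfsg.Agent.KFacts.HS.DFour
open Cfsg.Agent.H459.Rad Cfsg.Agent.H459.Iface Cfsg.Agent.H483.Rad23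

variable {L : Type*} [Group L] (D : Cfsg.Agent.KFacts.HS.Mod L)

/-- the word is trivial modulo `τ` -/
def triv (u : List ℕ) : Bool := eqw u [] || eqw u [0, 0]

/-- the word is nontrivial modulo `τ` -/
def ntriv (u : List ℕ) : Bool := okw u && !(eqw u []) && !(eqw u [0, 0])

theorem triv_spec {u : List ℕ} (h : triv u = true) : hw u = 1 ∨ hw u = τ := by
  unfold triv at h
  rw [Bool.or_eq_true] at h
  rcases h with h | h
  · exact Or.inl (hw_eq h)
  · exact Or.inr ((hw_eq h).trans hw_τ)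

theorem ntriv_spec {u : List ℕ} (h : ntriv u = true) : ¬ (hw u = 1 ∨ hw u = τ) := by
  unfold ntriv at h
  simp only [Bool.and_eq_true, Bool.not_eq_true'] at h
  obtain ⟨⟨h1, h2⟩, h3⟩ := h
  rintro (h4 | h4)
  · rw [eqw_of_hw_eq h1 (by decide) (h4.trans hw_nil.symm)] at h2
    exact absurd h2 (by decide)
  · rw [eqw_of_hw_eq h1 (by decide) (h4.trans hw_τ.symm)] at h3
    exact absurd h3 (by decide)

/-- powers of words -/
def wp (u : List ℕ) : ℕ → List ℕ
  | 0 => []
  | n + 1 => wp u n ++ u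

theorem hw_wp (u : List ℕ) (n : ℕ) : hw (wp u n) = hw u ^ n := by
  induction n with
  | zero => rw [wp, hw_nil, pow_zero]
  | succ n ih => rw [wp, hw_append, ih, pow_succ]

theorem au_one {u : List ℕ} (h : triv u = true) : D.au (hw u) = 1 := (D.au_ker _).2 (triv_spec h)

theorem au_ne {u : List ℕ} (h : ntriv u = true) : D.au (hw u) ≠ 1 := fun h1 => ntriv_spec h ((D.au_ker _).1 h1)

/-- the check of a commutator of order 5 modulo `τ` -/
def chk5 (h k : List ℕ) : Bool :=
  okw k && !(par k) && triv (wp (h ++ (k ++ (iw h ++ iw k))) 5) && ntriv (h ++ (k ++ (iw h ++ iw k)))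

theorem false_of_chk [Finite L] (hc : center L = ⊥) {h k : List ℕ} (hchk : chk5 h k = true) (hT : TT (D.au (hw h))) :
    False := by
  unfold chk5 at hchk
  simp only [Bool.and_eq_true, Bool.not_eq_true'] at hchk
  obtain ⟨⟨⟨h1, h2⟩, h3⟩, h4⟩ := hchk
  have hk : hw k ∈ K := mem_K_of_par h1 h2
  set a : L := D.π ⟨hw k, hk⟩ with ha
  apply hT.not_dvd hc (l := 5) (by norm_num) le_rfl a
  have hinj := H839.Rad.conj_injective hc
  have h5 : (MulAut.conj (D.au (hw h) a * a⁻¹) : MulAut L) = D.au (hw (h ++ (k ++ (iw h ++ iw k)))) := by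
    rw [ha, D.au_π, ← map_inv, ← map_mul, ← D.au_K]
    congr 1
    rw [hw_append, hw_append, hw_append, hw_iw, hw_iw]
    change hw h * hw k * (hw h)⁻¹ * (hw k)⁻¹ = _
    group
  have h6 : orderOf (D.au (hw h) a * a⁻¹) = 5 := by
    apply orderOf_eq_prime
    · apply hinj
      rw [map_pow, h5, map_one, ← map_pow, ← hw_wp]
      exact au_one D h3
    · intro h7
      apply au_ne D h4
      rw [← h5, h7, map_one]
  rw [h6]

theorem chk_a : chk5 [2, 2, 2] [0, 2, 0] = true := by decide +kernel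
theorem chk_g0 : chk5 TwoB.g0w [2, 2, 0, 2, 2] = true := by decide +kernel
theorem chk_d : chk5 [1, 3, 1, 2, 1, 4, 3, 4, 2, 4] [2, 2] = true := by decide +kernel

/-- `TT` for conjugate automorphisms -/
theorem tt_conj {x a : MulAut L} (h : TT (a * x * a⁻¹)) : TT x := by
  have h1 := TT.tr (a⁻¹ : MulAut L) h
  have h2 : H459.Rad.tr (a⁻¹ : MulAut L) (a * x * a⁻¹) = x := by
    ext l
    rw [tr_apply]
    change a⁻¹ (a (x (a⁻¹ (a l)))) = x l
    simp
  rwa [h2] at h1

theorem ps_conj [Finite L] {n : ℕ} {x a : MulAut L} (h : PS n (a * x * a⁻¹)) : PS n x := by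
  have h1 := PS.tr (a⁻¹ : MulAut L) h
  have h2 : H459.Rad.tr (a⁻¹ : MulAut L) (a * x * a⁻¹) = x := by
    ext l
    rw [tr_apply]
    change a⁻¹ (a (x (a⁻¹ (a l)))) = x l
    simp
  rwa [h2] at h1

/-- conjugates of `z` -/
def cj (k : List ℕ) : List ℕ := k ++ ([4] ++ iw k)

theorem au_cj (k : List ℕ) : D.au (hw (cj k)) = D.au (hw k) * D.au gz * (D.au (hw k))⁻¹ := by
  rw [cj, hw_append, hw_append, hw_z, hw_iw, map_mul, map_mul, map_inv, mul_assoc]

def uu : List ℕ := cj [] ++ cj [2]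
def vv : List ℕ := cj [3] ++ cj [2, 4, 2, 4]

theorem chk_z : (triv (wp uu 3) && triv (wp vv 4) && triv (wp (uu ++ vv) 7) && ntriv (uu ++ vv)) = true := by
  decide +kernel

/-- four conjugates of the outer involution `z` generate a nonsolvable group -/
theorem false_z (h : PS 4 (D.au gz)) : False := by
  have hk : ∀ k : List ℕ, okw k = true → par k = false → ∃ f : L, MulAut.conj f = D.au (hw k) := by
    intro k h1 h2
    exact ⟨D.π ⟨hw k, mem_K_of_par h1 h2⟩, (D.au_K _).symm⟩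
  obtain ⟨f0, hf0⟩ := hk [] (by decide) (by decide)
  obtain ⟨f1, hf1⟩ := hk [2] (by decide) (by decide)
  obtain ⟨f2, hf2⟩ := hk [3] (by decide) (by decide)
  obtain ⟨f3, hf3⟩ := hk [2, 4, 2, 4] (by decide) (by decide)
  have hs := h ![f0, f1, f2, f3]
  have hchk := chk_z
  simp only [Bool.and_eq_true] at hchk
  obtain ⟨⟨⟨h1, h2⟩, h3⟩, h4⟩ := hchk
  have hm : ∀ (k : List ℕ) (i : Fin 4), MulAut.conj ((![f0, f1, f2, f3] : Fin 4 → L) i) = D.au (hw k) →
      D.au (hw (cj k)) ∈ closure (Set.range fun i => MulAut.conj ((![f0, f1, f2, f3] : Fin 4 → L) i) * D.au gz *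
        (MulAut.conj ((![f0, f1, f2, f3] : Fin 4 → L) i))⁻¹) := by
    intro k i hki
    apply Subgroup.subset_closure
    refine ⟨i, ?_⟩
    change MulAut.conj ((![f0, f1, f2, f3] : Fin 4 → L) i) * D.au gz *
        (MulAut.conj ((![f0, f1, f2, f3] : Fin 4 → L) i))⁻¹ = _
    rw [hki, au_cj]
  have m0 := hm [] 0 hf0
  have m1 := hm [2] 1 hf1
  have m2 := hm [3] 2 hf2
  have m3 := hm [2, 4, 2, 4] 3 hf3
  refine H959.Rad3.not_solvable_of_coprime (a := D.au (hw uu)) (b := D.au (hw vv)) (k := 2) (n := 7) ?_ ?_ ?_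
    (by norm_num) ?_ (SignalizersComponents.ComponentExists.isSolvable_of_le ?_ hs)
  · rw [← map_pow, ← hw_wp]
    exact au_one D h1
  · rw [← map_pow, ← hw_wp]
    exact au_one D h2
  · rw [← map_mul, ← map_pow, ← hw_append, ← hw_wp]
    exact au_one D h3
  · rw [← map_mul, ← hw_append]
    exact au_ne D h4
  · rw [closure_le]
    rintro y (rfl | rfl)
    · rw [uu, hw_append, map_mul]
      exact mul_mem m0 m1
    · rw [vv, hw_append, map_mul]
      exact mul_mem m2 m3

theorem row2_hs {K : Type*} [Group K] [Finite K] [IsSimpleGroup K] (h : Cfsg.Spor.IsoHS K) : Row23 2 K := by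
  obtain ⟨D⟩ := exists_mod h
  have hc : center K = ⊥ := by
    rcases (inferInstance : (center K).Normal).eq_bot_or_eq_top with h1 | h1
    · exact h1
    · exfalso
      have h2 := chk_a
      unfold chk5 at h2
      simp only [Bool.and_eq_true, Bool.not_eq_true'] at h2
      apply au_ne D h2.2
      have hK : hw ([2, 2, 2] ++ ([0, 2, 0] ++ (iw [2, 2, 2] ++ iw [0, 2, 0]))) ∈ HS100.K :=
        mem_K_of_par (by decide) (by decide)
      rw [show D.au (hw ([2, 2, 2] ++ ([0, 2, 0] ++ (iw [2, 2, 2] ++ iw [0, 2, 0])))) =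
        MulAut.conj (D.π ⟨_, hK⟩) from D.au_K ⟨_, hK⟩]
      ext y
      rw [MulAut.conj_apply, MulAut.one_apply]
      have h3 : y ∈ center K := by rw [h1]; trivial
      rw [mem_center_iff.1 h3, mul_inv_cancel_right]
  intro x hx _ hP hT
  by_cases hin : ∃ g, x = MulAut.conj g
  · obtain ⟨g, rfl⟩ := hin
    rw [orderOf_injective _ (H839.Rad.conj_injective hc)] at hx
    have hgg : g * g = 1 := by rw [← pow_two, ← hx, pow_orderOf_eq_one]
    have hg1 : g ≠ 1 := by
      rintro rfl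
      rw [orderOf_one] at hx
      omega
    rcases inv_cases D g hgg hg1 with ⟨c, rfl⟩ | ⟨c, rfl⟩
    · rw [map_mul, map_mul, map_inv] at hT
      have h1 := tt_conj hT
      have h2 : MulAut.conj (DFour.zA D) = D.au (hw [2, 2, 2]) := by
        rw [zA, ← D.au_K, Syl.hw_a]
      rw [h2] at h1
      exact false_of_chk D hc chk_a h1
    · rw [map_mul, map_mul, map_inv] at hT
      have h1 := tt_conj hT
      have h2 : MulAut.conj (DFour.wB D) = D.au (hw TwoB.g0w) := by
        rw [DFour.wB, ← D.au_K]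
        rfl
      rw [h2] at h1
      exact false_of_chk D hc chk_g0 h1
  · obtain ⟨a, h1 | h1⟩ := CpAutTwo.HS.outer_cases D x hx hin
    · rw [h1] at hP
      exact false_z D (ps_conj hP)
    · rw [h1] at hT
      exact false_of_chk D hc chk_d (tt_conj hT)

end Cfsg.Agent.H817.RadHS
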