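import Cfsg.Agent.H483.Rad23.Base
import Cfsg.Agent.H287.OutMcL
import Cfsg.Agent.H661.SporMcL
import Cfsg.Agent.H291.Parity

/-!
# Radical automorphisms of order two of `McL` (helper817, S3832, S4336)
-/

set_option autoImplicit false

namespace Cfsg.Agent.H817.RadMcL

open Subgroup Equiv Cfsg
open Cfsg.Agent.UGT.End.McLOuter Cfsg.Agent.UGT.End.McLPerm
open Cfsg.Agent.TypeM Cfsg.Agent.TypeM.OuterMcL
open Cfsg.Agent.TypeM.Two (MT)
open Cfsg.Agent.H459.Rad Cfsg.Agent.H459.Iface Cfsg.Agent.H483.Rad23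

/-- the element of `A_8` -/
def al : Perm (Fin 8) := ⟨![6, 0, 1, 2, 4, 5, 3, 7], ![1, 2, 3, 6, 4, 5, 0, 7], by decide, by decide⟩

theorem al_sign : Perm.sign al = 1 := by decide

theorem al_pow : (s0 * al * s0⁻¹ * al⁻¹) ^ 5 = 1 := by decide +kernel

theorem al_ne : s0 * al * s0⁻¹ * al⁻¹ ≠ 1 := by decide

theorem row2_mcl {K : Type*} [Group K] [Finite K] [IsSimpleGroup K] (h : Cfsg.Spor.IsoMcL K) : Row23 2 K := by
  obtain ⟨-, -, hcard, ⟨L⟩⟩ := TypeM.FactsMcL.facts h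
  obtain ⟨f⟩ := h
  set y : K := f.symm H661.Spor.McL.mx with hy
  set s : K := f.symm H661.Spor.McL.mi with hs
  have hy5 : orderOf y = 5 := by
    rw [hy, MulEquiv.orderOf_eq]
    exact orderOf_eq_prime H661.Spor.McL.mx_pow H661.Spor.McL.mx_ne
  have hss : s * s = 1 := by rw [hs, ← map_mul, H661.Spor.McL.mi_sq, map_one]
  have hs1 : s ≠ 1 := by
    rw [hs, Ne, MulEquiv.map_eq_one_iff]
    exact H661.Spor.McL.mi_ne
  have hsy : s * y * (s * y) = 1 := by
    rw [hs, hy, ← map_mul, ← map_mul, H661.Spor.McL.mi_mx, map_one]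
  have hc : center K = ⊥ := by
    rcases (inferInstance : (center K).Normal).eq_bot_or_eq_top with h1 | h1
    · exact h1
    · exfalso
      have h3 : y ∈ center K := by rw [h1]; trivial
      have h4 : s * y = y * s := mem_center_iff.1 h3 s
      have h5 : y ^ 2 = 1 := by
        calc y ^ 2 = y * (s * s) * y := by rw [hss, mul_one, pow_two]
          _ = s * y * (s * y) := by rw [← mul_assoc y s s, ← h4, mul_assoc]
          _ = 1 := hsy
      have h6 := orderOf_dvd_of_pow_eq_one h5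
      rw [hy5] at h6
      norm_num at h6
  intro x hx _ _ hT
  by_cases hin : ∃ g, x = MulAut.conj g
  · obtain ⟨g, rfl⟩ := hin
    rw [orderOf_injective _ (H839.Rad.conj_injective hc)] at hx
    have hgg : g * g = 1 := by rw [← pow_two, ← hx, pow_orderOf_eq_one]
    have hg1 : g ≠ 1 := by
      rintro rfl
      rw [orderOf_one] at hx
      omega
    obtain ⟨c, hcs⟩ := L.one s hss hs1
    obtain ⟨d, hdg⟩ := L.one g hgg hg1
    have hg : g = (d * c⁻¹) * s * (d * c⁻¹)⁻¹ := by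
      rw [← hdg, ← hcs]
      group
    have ho : orderOf ((d * c⁻¹) * y * (d * c⁻¹)⁻¹) = 5 := by
      rw [← MulAut.conj_apply, MulEquiv.orderOf_eq, hy5]
    apply hT.no_inv hc (by norm_num : (5 : ℕ).Prime) le_rfl ho
    rw [MulAut.conj_apply, hg]
    have h1 : s * y * s⁻¹ = y⁻¹ := by
      rw [inv_eq_of_mul_eq_one_left hss]
      exact eq_inv_of_mul_eq_one_left (by rw [← hsy]; group)
    calc d * c⁻¹ * s * (d * c⁻¹)⁻¹ * (d * c⁻¹ * y * (d * c⁻¹)⁻¹) * (d * c⁻¹ * s * (d * c⁻¹)⁻¹)⁻¹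
        = d * c⁻¹ * (s * y * s⁻¹) * (d * c⁻¹)⁻¹ := by group
      _ = (d * c⁻¹ * y * (d * c⁻¹)⁻¹)⁻¹ := by rw [h1]; group
  · have hφ : x * x = 1 := by rw [← pow_two, ← hx, pow_orderOf_eq_one]
    have he : Even (Nat.card ↥(centralizer ({(1 : K)} : Set K))) := by
      have h1 : centralizer ({(1 : K)} : Set K) = ⊤ := by
        rw [eq_top_iff]
        intro a _
        rw [mem_centralizer_singleton_iff, mul_one, one_mul]
      rw [h1, card_top, hcard]
      decide
    obtain ⟨u, hu2, hxu, -⟩ := H291.Parity.exists_comm_invo x hφ (w := (1 : K)) (map_one x) he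
    have hI : ∀ L' : MT 8 K, EvenInner L' := fun L' =>
      Cfsg.Agent.TypeM.OuterInst.evenInner L' (Or.inl rfl) (Cfsg.Agent.TypeM.FactsAut.gen L' (Or.inl ⟨rfl, hcard⟩))
    have hout : x ∉ (MulAut.conj : K →* MulAut K).range := fun ⟨g, hg⟩ => hin ⟨g, hg.symm⟩
    have huu : u * u = 1 := by rw [← pow_two, ← hu2, pow_orderOf_eq_one]
    have hu1 : u ≠ 1 := by
      rintro rfl
      rw [orderOf_one] at hu2
      omega
    obtain ⟨L1, hL1⟩ := L.exists_rebase huu hu1
    obtain ⟨L2, hL2, hcp⟩ := exists_type L1 (fun L' _ => hI L') hφ hout (by rw [hL1]; exact hxu)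
    have hxt : x L2.t = L2.t := by rw [hL2, hL1]; exact hxu
    obtain ⟨a, ha⟩ : al ∈ L2.K.π.range := by
      rw [L2.K.range_eq]
      exact Perm.mem_alternatingGroup.2 al_sign
    have hxa : x (a : K) ∈ centralizer ({L2.t} : Set K) := by
      rw [mem_centralizer_singleton_iff]
      have h1 := congrArg x (mem_centralizer_singleton_iff.1 a.2)
      rw [map_mul, map_mul, hxt] at h1
      exact h1
    have h1 := hcp a ⟨x a, hxa⟩ rfl
    have h2 : L2.K.π (⟨x a, hxa⟩ * a⁻¹) = s0 * al * s0⁻¹ * al⁻¹ := by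
      rw [map_mul, map_inv, h1, ha]
    have h3 : orderOf (s0 * al * s0⁻¹ * al⁻¹) = 5 := orderOf_eq_prime al_pow al_ne
    have h4 : 5 ∣ orderOf ((⟨x a, hxa⟩ : ↥(centralizer ({L2.t} : Set K))) * a⁻¹) := by
      rw [← h3, ← h2]
      exact orderOf_map_dvd L2.K.π _
    apply hT.not_dvd hc (by norm_num : (5 : ℕ).Prime) le_rfl (a : K)
    rw [← Subgroup.orderOf_coe] at h4
    exact h4

end Cfsg.Agent.H817.RadMcL
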