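import Cfsg.Agent.H817.ThinMathieu
import Cfsg.Agent.CoOneType.Thirteen
import Cfsg.Agent.SporadicA.Co0Mono
import Cfsg.Prelude.Def_Spor_Conway

/-!
# Thin groups: `HS`, `McL` (they contain `M22`) (helper817)
-/

set_option autoImplicit false

namespace Cfsg.Agent.H817.Thin.Conway

open Cfsg Subgroup Cfsg.Agent.ETable Cfsg.Agent.SporadicA.Co0Mono

/-- the inclusion in `M24` -/
def incl : Spor.M22 →* M24 := Subgroup.inclusion (fun _ h => h.1.1)

theorem incl_none (σ : Spor.M22) : (incl σ : Equiv.Perm GolayPt) none = none := σ.2.1.2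

theorem incl_zero (σ : Spor.M22) : (incl σ : Equiv.Perm GolayPt) (some 0) = some 0 := σ.2.2

theorem symm_none (σ : Spor.M22) (p : GolayPt) : ((incl σ : Equiv.Perm GolayPt).symm p = none) ↔ p = none := by
  rw [Equiv.symm_apply_eq, incl_none]

theorem symm_zero (σ : Spor.M22) (p : GolayPt) : ((incl σ : Equiv.Perm GolayPt).symm p = some 0) ↔ p = some 0 := by
  rw [Equiv.symm_apply_eq, incl_zero]

theorem smul_V (σ : Spor.M22) : permCo0 (incl σ) • Spor.leechV = Spor.leechV := by
  apply Subtype.ext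
  funext p
  rw [permCo0_smul, permMap_apply]
  show (if (incl σ : Equiv.Perm GolayPt).symm p = none then (-5 : ℤ) else -1) = if p = none then -5 else -1
  by_cases h2 : p = none
  · rw [if_pos h2, if_pos ((symm_none σ p).2 h2)]
  · rw [if_neg h2, if_neg (fun h3 => h2 ((symm_none σ p).1 h3))]

theorem smul_U (σ : Spor.M22) : permCo0 (incl σ) • Spor.leechU = Spor.leechU := by
  apply Subtype.ext
  funext p
  rw [permCo0_smul, permMap_apply]
  show (if (incl σ : Equiv.Perm GolayPt).symm p = none ∨ (incl σ : Equiv.Perm GolayPt).symm p = some 0 then (4 : ℤ)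
    else 0) = if p = none ∨ p = some 0 then 4 else 0
  by_cases h2 : p = none ∨ p = some 0
  · rw [if_pos h2, if_pos (h2.imp (symm_none σ p).2 (symm_zero σ p).2)]
  · rw [if_neg h2, if_neg (fun h3 => h2 (h3.imp (symm_none σ p).1 (symm_zero σ p).1))]

theorem smul_U' (σ : Spor.M22) : permCo0 (incl σ) • Spor.leechU' = Spor.leechU' := by
  apply Subtype.ext
  funext p
  rw [permCo0_smul, permMap_apply]
  show (if (incl σ : Equiv.Perm GolayPt).symm p = none then (4 : ℤ)
    else if (incl σ : Equiv.Perm GolayPt).symm p = some 0 then -4 else 0) =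
    if p = none then 4 else if p = some 0 then -4 else 0
  by_cases h2 : p = none
  · rw [if_pos h2, if_pos ((symm_none σ p).2 h2)]
  · rw [if_neg h2, if_neg (fun h3 => h2 ((symm_none σ p).1 h3))]
    by_cases h3 : p = some 0
    · rw [if_pos h3, if_pos ((symm_zero σ p).2 h3)]
    · rw [if_neg h3, if_neg (fun h4 => h3 ((symm_zero σ p).1 h4))]

/-- the embedding of `M22` in `McL` -/
def embMcL : Spor.M22 →* Spor.McL :=
  (Co0.subtype.comp (permCo0.comp incl)).codRestrict Spor.McL (fun σ =>
    ⟨⟨(permCo0 (incl σ)).2, smul_V σ⟩, smul_U σ⟩)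

/-- the embedding of `M22` in `HS` -/
def embHS : Spor.M22 →* Spor.HS :=
  (Co0.subtype.comp (permCo0.comp incl)).codRestrict Spor.HS (fun σ =>
    ⟨⟨(permCo0 (incl σ)).2, smul_V σ⟩, smul_U' σ⟩)

theorem perm_inj {σ τ : Spor.M22} (h : (permCo0 (incl σ) : Equiv.Perm leechLattice) = permCo0 (incl τ)) : σ = τ := by
  have h1 : permCo0 (incl σ) = permCo0 (incl τ) := Subtype.ext h
  exact Subgroup.inclusion_injective _ (Cfsg.Agent.CoOneType.Thirteen.permCo0_injective h1)

theorem hs : EWit 2 Spor.HS :=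
  EWit.of_injective embHS (fun σ τ h => perm_inj (σ := σ) (τ := τ)
    (congrArg (fun z : Spor.HS => (z : Equiv.Perm leechLattice)) h)) Mathieu.M22.ewit

theorem mcl : EWit 2 Spor.McL :=
  EWit.of_injective embMcL (fun σ τ h => perm_inj (σ := σ) (τ := τ)
    (congrArg (fun z : Spor.McL => (z : Equiv.Perm leechLattice)) h)) Mathieu.M22.ewit

end Cfsg.Agent.H817.Thin.Conway
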