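import Cfsg.Agent.H817.UThreeFive
import Cfsg.Agent.S0277
import Cfsg.Agent.H399.Defs2
import Cfsg.Prelude.Def_Classification2

/-!
# `N(V)` is not maximal, `V` of order 4 in `U₃(5)` (helper817)
-/

set_option autoImplicit false
set_option linter.unusedSectionVars false

namespace Cfsg.Agent.H817.UThreeFive

open Matrix Cfsg
open Cfsg.Agent.LieClassical.HermBasic Cfsg.Agent.LieClassical.SUBasic
open Cfsg.Agent.LieClassical.HermSiegel (mat mat_def act_def act_one act_mul act_smul act_add ext_act)
open Cfsg.Agent.ClassicalGeometry.PSUAutCount (gm gm_def semiConj toAut gm_mul gm_one gm_mul_inv gm_inv_mul eq_of_toAut_eq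
  act_semiConj gm_mulVec_inv gm_inv_mulVec herm_gm)
open Cfsg.Agent.ClassicalGeometry.UnitAutBasic (pr pr_surjective)
open Cfsg.Agent.Schreier.PSU (toAut_pr' mapGU gm_mapGU)
open Cfsg.Agent.UGT.U2.FOne.PSUSemi (S S_def S_smul S_S toAut_mul)
open Cfsg.Agent.GTwoOdd.Core.HFiveB (vv emb negOne toC pow_three_of_center emb_negOne blk blk_mulVec toC_surjective
  emb_injective)

/-- the action of `SU` on vectors -/
local notation "ac" => Cfsg.Agent.LieClassical.HermSiegel.act

section refl

variable {F : Type*} [Field F] [Fintype F] (hF : Fintype.card F = 5 ^ 2)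
include hF

theorem herm_ac (h : SU 3 F 5) (x y : Fin 3 → F) : hermForm 3 F 5 (ac h x) (ac h y) = hermForm 3 F 5 x y :=
  (Cfsg.Agent.LieClassical.SUBasic.mem_SU_iff _).1 h.2 x y

/-- the involution `diag(1,-1,-1)` as a reflection -/
theorem act_vs_zero (y : Fin 3 → F) :
    ac (vs F 0) y = (2 * hermForm 3 F 5 y (Pi.single 0 1)) • (Pi.single 0 1 : Fin 3 → F) - y := by
  rw [act_vs, herm_single_right hF]
  funext j
  rcases eq_or_ne j 0 with rfl | hj
  · simp; ring
  · simp [hj]

theorem emb_eq : emb hF (negOne (by decide : Odd 5) hF) = vs F 0 := by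
  apply ext_act
  intro x
  rw [act_vs]
  show (emb hF (negOne (by decide : Odd 5) hF)).1.1 *ᵥ x = _
  rw [emb_negOne]
  funext i
  fin_cases i <;> simp [Matrix.mulVec, dotProduct, Fin.sum_univ_three]

/-- the involutions of `SU_3(5)` are reflections (up to sign) -/
theorem exists_refl {h : SU 3 F 5} (hh : h * h = 1) (h1 : h ≠ 1) :
    ∃ u : Fin 3 → F, hermForm 3 F 5 u u = 1 ∧ ∀ y, ac h y = (2 * hermForm 3 F 5 y u) • u - y := by
  obtain ⟨x, hx⟩ := Cfsg.Agent.GTwoOdd.CentPSU.exists_conj_SU hF (by decide) hh h1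
  rw [emb_eq hF] at hx
  refine ⟨ac x (Pi.single 0 1), ?_, fun y => ?_⟩
  · rw [herm_ac hF, herm_single_left]
    simp
  · rw [← hx, act_mul, act_mul, act_vs_zero hF]
    have h2 : hermForm 3 F 5 (ac x⁻¹ y) (Pi.single 0 1) = hermForm 3 F 5 y (ac x (Pi.single 0 1)) := by
      rw [← herm_ac hF x, ← act_mul, mul_inv_cancel, act_one]
    rw [h2]
    have h3 : ∀ a b : Fin 3 → F, ac x (a - b) = ac x a - ac x b := by
      intro a b
      rw [act_def, act_def, act_def, Matrix.mulVec_sub]
    rw [h3, act_smul, ← act_mul, mul_inv_cancel, act_one]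

/-- commuting distinct reflections are orthogonal -/
theorem orth {h k : SU 3 F 5} {u w : Fin 3 → F} (hu : hermForm 3 F 5 u u = 1) (hw : hermForm 3 F 5 w w = 1)
    (hh : ∀ y, ac h y = (2 * hermForm 3 F 5 y u) • u - y) (hk : ∀ y, ac k y = (2 * hermForm 3 F 5 y w) • w - y)
    (hc : h * k = k * h) (hne : h ≠ k) : hermForm 3 F 5 u w = 0 := by
  by_contra h0
  apply hne
  have h2 := two_ne hF
  set c := hermForm 3 F 5 u w with hcdef
  -- apply both products to `u`
  have e1 : ac (h * k) u = (2 * c) • ((2 * hermForm 3 F 5 w u) • u - w) - u := by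
    have h3 : ∀ a b : Fin 3 → F, ac h (a - b) = ac h a - ac h b := by
      intro a b
      rw [act_def, act_def, act_def, Matrix.mulVec_sub]
    rw [act_mul, hk, h3, act_smul, hh w, hh u, hu, mul_one, two_smul F u, add_sub_cancel_right]
  have e2 : ac (k * h) u = (2 * c) • w - u := by
    rw [act_mul, hh u, hu, mul_one, two_smul F u, add_sub_cancel_right, hk]
  rw [hc, e2] at e1
  have e3 : (2 * c) • w = (2 * c) • ((2 * hermForm 3 F 5 w u) • u - w) := by
    have := sub_left_inj.1 e1
    exact this
  have h2c : 2 * c ≠ 0 := mul_ne_zero h2 h0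
  have e4 : w = (2 * hermForm 3 F 5 w u) • u - w := by
    have := congrArg (fun v => (2 * c)⁻¹ • v) e3
    simpa only [smul_smul, inv_mul_cancel₀ h2c, one_smul] using this
  have e5 : w = (hermForm 3 F 5 w u) • u := by
    have e6 : (2 : F) • w = (2 : F) • ((hermForm 3 F 5 w u) • u) := by
      rw [two_smul]
      nth_rewrite 1 [e4]
      rw [sub_add_cancel, smul_smul]
    have := congrArg (fun v => (2 : F)⁻¹ • v) e6
    simpa only [smul_smul, inv_mul_cancel₀ h2, one_smul, ← mul_assoc, one_mul] using this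
  set d := hermForm 3 F 5 w u with hd
  have hdd : d * d ^ 5 = 1 := by
    rw [e5, herm_smul_left, herm_smul_right, hu, mul_one] at hw
    exact hw
  apply ext_act
  intro y
  rw [hh, hk, e5, herm_smul_right, smul_smul]
  congr 2
  linear_combination (-2 * hermForm 3 F 5 y u) * hdd

/-- lifting of involutions -/
theorem exists_lift {x : PSU 3 F 5} (hx : x * x = 1) : ∃ h : SU 3 F 5, h * h = 1 ∧ pr 3 F 5 h = x := by
  obtain ⟨g, rfl⟩ := pr_surjective x
  rw [← map_mul] at hx
  have h1 : g * g ∈ Subgroup.center (SU 3 F 5) := (QuotientGroup.eq_one_iff _).1 hx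
  have h3 := pow_three_of_center hF (by decide) h1
  set z := g * g with hz
  have hcomm := fun x => Subgroup.mem_center_iff.1 h1 x
  refine ⟨g * z, ?_, ?_⟩
  · calc (g * z) * (g * z) = g * (z * g) * z := by group
      _ = g * (g * z) * z := by rw [hcomm g]
      _ = z * z * z := by rw [hz]; group
      _ = z ^ 3 := by rw [pow_succ, pow_two]
      _ = 1 := h3
  · rw [map_mul, hx, mul_one]

/-- lifts of commuting involutions commute -/
theorem lift_comm {h k : SU 3 F 5} (hh : h * h = 1) (hk : k * k = 1)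
    (hc : pr 3 F 5 h * pr 3 F 5 k = pr 3 F 5 k * pr 3 F 5 h) : h * k = k * h := by
  rw [← map_mul, ← map_mul] at hc
  have h1 : (h * k)⁻¹ * (k * h) ∈ Subgroup.center (SU 3 F 5) := QuotientGroup.eq.1 hc
  set z := (h * k)⁻¹ * (k * h) with hz
  have hcomm := fun x => Subgroup.mem_center_iff.1 h1 x
  have h3 := pow_three_of_center hF (by decide) h1
  have e1 : k * h = h * k * z := by rw [hz]; group
  have e2 : h * k * h = k * z := by
    calc h * k * h = h * (k * h) := by group
      _ = (h * h) * (k * z) := by rw [e1]; group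
      _ = k * z := by rw [hh, one_mul]
  have e3 : z * z = 1 := by
    have e4 : (h * k * h) * (h * k * h) = 1 := by
      calc (h * k * h) * (h * k * h) = h * k * (h * h) * k * h := by group
        _ = h * (k * k) * h := by rw [hh]; group
        _ = h * h := by rw [hk, mul_one]
        _ = 1 := hh
    rw [e2] at e4
    calc z * z = (k * k) * (z * z) := by rw [hk, one_mul]
      _ = k * (k * z) * z := by group
      _ = k * (z * k) * z := by rw [hcomm k]
      _ = k * z * (k * z) := by group
      _ = 1 := e4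
  have h8 : z = 1 := by
    calc z = z ^ 3 * (z * z)⁻¹ := by rw [pow_succ, pow_two]; group
      _ = 1 := by rw [h3, e3]; group
  rw [e1, h8, mul_one]

/-- **standard position** -/
theorem std {Q : Subgroup (PSU 3 F 5)} (hQ : Nat.card Q = 4) (hexp : ∀ x ∈ Q, x * x = 1) :
    ∃ B : GU 3 F 5, ∀ x, toAut B 1 x ∈ Q ↔ x = 1 ∨ ∃ k, x = pr 3 F 5 (vs F k) := by
  classical
  have hfin : Finite (PSU 3 F 5) := Quotient.finite _
  have hn : (Q : Set (PSU 3 F 5)).ncard = 4 := by rw [← hQ]; rfl
  obtain ⟨a, haQ, ha1⟩ : ∃ a ∈ Q, a ≠ 1 := by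
    by_contra hcon
    push Not at hcon
    have h1 : (Q : Set (PSU 3 F 5)) ⊆ {1} := fun x hx => hcon x hx
    have h2 := Set.ncard_le_ncard h1 (Set.toFinite _)
    rw [hn, Set.ncard_singleton] at h2
    omega
  obtain ⟨b, hbQ, hb1, hba⟩ : ∃ b ∈ Q, b ≠ 1 ∧ b ≠ a := by
    by_contra hcon
    push Not at hcon
    have h1 : (Q : Set (PSU 3 F 5)) ⊆ {1, a} := by
      intro x hx
      by_cases h : x = 1
      · exact Or.inl h
      · exact Or.inr (hcon x hx h)
    have h2 := Set.ncard_le_ncard h1 (Set.toFinite _)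
    have h3 := Set.ncard_insert_le (1 : PSU 3 F 5) {a}
    rw [Set.ncard_singleton] at h3
    omega
  have haa := hexp a haQ
  have hbb := hexp b hbQ
  have habQ := Q.mul_mem haQ hbQ
  have hab := hexp _ habQ
  have hcomm : a * b = b * a := by
    calc a * b = a * b * (a * b) * (a * b)⁻¹ := by group
      _ = (a * b)⁻¹ := by rw [hab, one_mul]
      _ = b⁻¹ * a⁻¹ := by group
      _ = b * a := by rw [inv_eq_of_mul_eq_one_left hbb, inv_eq_of_mul_eq_one_left haa]
  have hab1 : a * b ≠ 1 := by
    intro h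
    apply hba
    calc b = a * a * b := by rw [haa, one_mul]
      _ = a * (a * b) := by group
      _ = a := by rw [h, mul_one]
  have hmem : ∀ x, x ∈ Q ↔ x = 1 ∨ x = a ∨ x = b ∨ x = a * b := by
    have hsub : (({1, a, b, a * b} : Finset (PSU 3 F 5)) : Set (PSU 3 F 5)) ⊆ Q := by
      intro x hx
      simp only [Finset.coe_insert, Finset.coe_singleton, Set.mem_insert_iff, Set.mem_singleton_iff] at hx
      rcases hx with rfl | rfl | rfl | rfl
      · exact Q.one_mem
      · exact haQ
      · exact hbQ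
      · exact habQ
    have hcard : ({1, a, b, a * b} : Finset (PSU 3 F 5)).card = 4 := by
      rw [Finset.card_insert_of_notMem, Finset.card_insert_of_notMem, Finset.card_insert_of_notMem,
        Finset.card_singleton]
      · simp [ha1]
      · simp [Ne.symm hba, hb1]
      · simp [Ne.symm ha1, Ne.symm hb1, Ne.symm hab1]
    have heq := Set.eq_of_subset_of_ncard_le hsub (by rw [hn, Set.ncard_coe_finset, hcard]) (Set.toFinite _)
    intro x
    rw [← SetLike.mem_coe, ← heq]
    simp
  obtain ⟨h0, hh0, hp0⟩ := exists_lift hF haa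
  obtain ⟨h1, hh1, hp1⟩ := exists_lift hF hbb
  have hc01 : h0 * h1 = h1 * h0 := lift_comm hF hh0 hh1 (by rw [hp0, hp1, hcomm])
  have hh2 : (h0 * h1) * (h0 * h1) = 1 := by
    calc (h0 * h1) * (h0 * h1) = h0 * (h1 * h0) * h1 := by group
      _ = (h0 * h0) * (h1 * h1) := by rw [← hc01]; group
      _ = 1 := by rw [hh0, hh1, one_mul]
  have hp2 : pr 3 F 5 (h0 * h1) = a * b := by rw [map_mul, hp0, hp1]
  obtain ⟨u0, hu0, hr0⟩ := exists_refl hF hh0 (by rintro rfl; exact ha1 (by rw [← hp0, map_one]))
  obtain ⟨u1, hu1, hr1⟩ := exists_refl hF hh1 (by rintro rfl; exact hb1 (by rw [← hp1, map_one]))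
  obtain ⟨u2, hu2, hr2⟩ := exists_refl hF hh2 (by intro h; exact hab1 (by rw [← hp2, h, map_one]))
  have o01 := orth hF hu0 hu1 hr0 hr1 hc01 (by rintro rfl; exact hba (by rw [← hp0, ← hp1]))
  have o02 := orth hF hu0 hu2 hr0 hr2 (by rw [← mul_assoc, mul_assoc h0 h1 h0, ← hc01, mul_assoc]) (by
    intro h
    apply hb1
    have : h1 = 1 := by
      calc h1 = h0⁻¹ * (h0 * h1) := by group
        _ = 1 := by rw [← h]; group
    rw [← hp1, this, map_one])
  have o12 := orth hF hu1 hu2 hr1 hr2 (by rw [← mul_assoc, ← hc01]) (by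
    intro h
    apply ha1
    have : h0 = 1 := by
      calc h0 = (h0 * h1) * h1⁻¹ := by group
        _ = 1 := by rw [← h]; group
    rw [← hp0, this, map_one])
  have o10 : hermForm 3 F 5 u1 u0 = 0 := by rw [herm_swap hF, o01, zero_pow (by norm_num)]
  have o20 : hermForm 3 F 5 u2 u0 = 0 := by rw [herm_swap hF, o02, zero_pow (by norm_num)]
  have o21 : hermForm 3 F 5 u2 u1 = 0 := by rw [herm_swap hF, o12, zero_pow (by norm_num)]
  obtain ⟨P, hP, hPu⟩ := Cfsg.Agent.H907.SU3.exists_GU_of_orthonormal hF (![u0, u1, u2] : Fin 3 → Fin 3 → F) (by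
    intro i j
    fin_cases i <;> fin_cases j <;> simp [hu0, hu1, hu2, o01, o02, o12, o10, o20, o21])
  let B : GU 3 F 5 := ⟨P, hP⟩
  let hs : Fin 3 → SU 3 F 5 := ![h0, h1, h0 * h1]
  have hBu : ∀ i, gm B *ᵥ (Pi.single i 1) = (![u0, u1, u2] : Fin 3 → Fin 3 → F) i := hPu
  have hrs : ∀ k y, ac (hs k) y = (2 * hermForm 3 F 5 y ((![u0, u1, u2] : Fin 3 → Fin 3 → F) k)) •
      ((![u0, u1, u2] : Fin 3 → Fin 3 → F) k) - y := by
    intro k y
    fin_cases k
    · exact hr0 y
    · exact hr1 y
    · exact hr2 y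
  have hvs : ∀ (k : Fin 3) (y : Fin 3 → F), ac (vs F k) y =
      (2 * hermForm 3 F 5 y (Pi.single k 1)) • (Pi.single k 1 : Fin 3 → F) - y := by
    intro k y
    rw [act_vs, herm_single_right hF]
    funext j
    rcases eq_or_ne j k with rfl | hj
    · simp; ring
    · simp [hj]
  have hB : ∀ k, toAut B 1 (pr 3 F 5 (vs F k)) = pr 3 F 5 (hs k) := by
    intro k
    rw [toAut_pr']
    congr 1
    apply ext_act
    intro x
    obtain ⟨y, rfl⟩ := S_surjective B 1 x
    rw [act_semi, hvs, hrs, S_one, S_one, ← hBu, herm_gm, Matrix.mulVec_sub, Matrix.mulVec_smul]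
  refine ⟨B, fun x => ?_⟩
  rw [hmem]
  have k0 : toAut B 1 (pr 3 F 5 (vs F 0)) = a := (hB 0).trans hp0
  have k1 : toAut B 1 (pr 3 F 5 (vs F 1)) = b := (hB 1).trans hp1
  have k2 : toAut B 1 (pr 3 F 5 (vs F 2)) = a * b := (hB 2).trans hp2
  constructor
  · rintro (h | h | h | h)
    · left
      exact (toAut B 1).injective (by rw [h, map_one])
    · right
      exact ⟨0, (toAut B 1).injective (by rw [h, k0])⟩
    · right
      exact ⟨1, (toAut B 1).injective (by rw [h, k1])⟩
    · right
      exact ⟨2, (toAut B 1).injective (by rw [h, k2])⟩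
  · rintro (rfl | ⟨k, rfl⟩)
    · left
      rw [map_one]
    · right
      fin_cases k
      · exact Or.inl k0
      · exact Or.inr (Or.inl k1)
      · exact Or.inr (Or.inr k2)

/-- the centraliser of an involution of `PSU_3(5)` has order at least 240 -/
theorem cent_large : 240 ≤ Nat.card (Subgroup.centralizer ({vv (F := F) hF (by decide : Odd 5)} : Set (PSU 3 F 5))) := by
  have hq : Odd 5 := by decide
  have hfin : Finite (Cfsg.GU 2 F 5) := Cfsg.Agent.LieClassical.GUOrder.finite_GU 2
  have hcc : Nat.card (Subgroup.center (Cfsg.SU 3 F 5)) = Nat.gcd 3 (5 + 1) :=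
    Cfsg.Agent.S0280.card_center hF 3 (by norm_num)
  have h2 := Cfsg.Agent.S0277.result hF 2
  norm_num [Finset.prod_range_succ, Nat.even_iff] at h2
  set C := Subgroup.centralizer ({vv (F := F) hF hq} : Set (PSU 3 F 5)) with hC
  have h3 : Nat.card C * Nat.card (toC (F := F) hF hq).ker = Nat.card (Cfsg.GU 2 F 5) := by
    rw [← Subgroup.card_mul_index (toC (F := F) hF hq).ker, Subgroup.index_ker,
      MonoidHom.range_eq_top.2 (toC_surjective hF hq), Subgroup.card_top, mul_comm]
  have hfinC : Finite (Subgroup.center (Cfsg.SU 3 F 5)) := by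
    apply Nat.finite_of_card_ne_zero
    rw [hcc]
    norm_num
  have hKle : Nat.card (toC (F := F) hF hq).ker ≤ Nat.gcd 3 (5 + 1) := by
    rw [← hcc]
    refine Nat.card_le_card_of_injective (fun r : (toC (F := F) hF hq).ker =>
      (⟨emb hF (r : Cfsg.GU 2 F 5), ?_⟩ : Subgroup.center (Cfsg.SU 3 F 5))) ?_
    · have h4 : (toC hF hq (r : Cfsg.GU 2 F 5)) = 1 := r.2
      have h5 : (QuotientGroup.mk (emb hF (r : Cfsg.GU 2 F 5)) : PSU 3 F 5) = 1 :=
        congrArg Subtype.val h4
      rwa [QuotientGroup.eq_one_iff] at h5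
    · intro r s hrs
      exact Subtype.ext (emb_injective hF (congrArg Subtype.val hrs))
  have h6 : Nat.gcd 3 (5 + 1) = 3 := by norm_num
  rw [h6] at hKle
  rw [h2] at h3
  by_contra hcon
  push Not at hcon
  have h7 : Nat.card C * Nat.card (toC (F := F) hF hq).ker ≤ 239 * 3 := Nat.mul_le_mul (by omega) hKle
  omega

end refl

section cyc

variable {F : Type*} [Field F] [Fintype F] {G : Type*} [Group G] [Finite G]

theorem card_le_of_cyclic {V : Subgroup G} (hV : Nat.card V = 4) (hcyc : IsCyclic V) :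
    Nat.card (Subgroup.normalizer (V : Set G)) ≤ 2 * Nat.card (Subgroup.centralizer (V : Set G)) := by
  have h1 := (Subgroup.normalizerMonoidHom V).ker.card_mul_index
  rw [Subgroup.index_ker, Subgroup.normalizerMonoidHom_ker] at h1
  have hfin : Finite (MulAut V) := inferInstance
  have h2 : Nat.card (Subgroup.normalizerMonoidHom V).range ≤ 2 := by
    have h3 : Nat.card (MulAut V) = 2 := by
      rw [IsCyclic.card_mulAut, hV]
      decide
    rw [← h3]
    exact Nat.card_le_card_of_injective _ Subtype.val_injective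
  have h4 : Nat.card ((Subgroup.centralizer (V : Set G)).subgroupOf (Subgroup.normalizer (V : Set G))) ≤
      Nat.card (Subgroup.centralizer (V : Set G)) := by
    refine Nat.card_le_card_of_injective (fun x => (⟨x.1.1, x.2⟩ : Subgroup.centralizer (V : Set G))) ?_
    intro x y hxy
    have h5 : x.1.1 = y.1.1 := congrArg (fun z : Subgroup.centralizer (V : Set G) => (z : G)) hxy
    exact Subtype.ext (Subtype.ext h5)
  rw [← h1, mul_comm 2]
  exact Nat.mul_le_mul h4 h2

end cyc

open Cfsg.Agent.H399

universe u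

/-- **`N(V)` is not a maximal subgroup of an almost simple group with socle `U₃(5)`, `|V| = 4`, `|C(V)| ∈ {12, 24}`.** -/
theorem u35 {F : Type} [Field F] [Fintype F] (hF : Fintype.card F = 25) {G : Type u} [Group G] [Finite G]
    (T : Subgroup G) [T.Normal] (hC : Subgroup.centralizer (T : Set G) = ⊥) (e : T ≃* PSU 3 F 5)
    {A V : Subgroup G} (hmax : IsCoatom A) (hV : Nat.card V = 4) (hVT : V ≤ T)
    (hN : Subgroup.normalizer (V : Set G) = A)
    (hCV : Nat.card (Subgroup.centralizer (V : Set G)) = 12 ∨ Nat.card (Subgroup.centralizer (V : Set G)) = 24) :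
    False := by
  have hF' : Fintype.card F = 5 ^ 2 := by rw [hF]; norm_num
  have hCV' : Nat.card (Subgroup.centralizer (V : Set G)) ≤ 24 := by omega
  by_cases hexp : ∀ x ∈ V, x * x = 1
  · -- the fours group
    set Q : Subgroup (PSU 3 F 5) := (V.subgroupOf T).map e.toMonoidHom with hQ
    have hmemQ : ∀ t : T, e t ∈ Q ↔ (t : G) ∈ V := by
      intro t
      constructor
      · rintro ⟨t', ht', htt⟩
        rw [← e.injective htt]
        exact ht'
      · intro ht
        exact ⟨t, ht, rfl⟩
    have hQ4 : Nat.card Q = 4 := by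
      rw [hQ, Subgroup.card_map_of_injective e.injective, Nat.card_congr (Subgroup.subgroupOfEquivOfLe hVT).toEquiv, hV]
    have hQe : ∀ x ∈ Q, x * x = 1 := by
      rintro _ ⟨t, ht, rfl⟩
      have h1 : t * t = 1 := Subtype.ext (hexp _ ht)
      change e t * e t = 1
      rw [← map_mul, h1, map_one]
    obtain ⟨B, hB⟩ := std hF' hQ4 hQe
    refine core hF' T (e.trans (toAut B 1).symm) hmax hVT hN ?_ hCV'
    intro t
    rw [← hmemQ, MulEquiv.trans_apply, ← hB, MulEquiv.apply_symm_apply]
  · -- the cyclic group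
    push Not at hexp
    obtain ⟨x, hxV, hx⟩ := hexp
    have hx4 : orderOf x = 4 := by
      have h1 : orderOf x ∣ 4 := by
        rw [← hV]
        have := orderOf_dvd_natCard (⟨x, hxV⟩ : V)
        rwa [Subgroup.orderOf_mk] at this
      have h2 : ¬ orderOf x ∣ 2 := by
        intro h
        apply hx
        rw [← pow_two]
        exact orderOf_dvd_iff_pow_eq_one.1 h
      have h3 : orderOf x ≤ 4 := Nat.le_of_dvd (by norm_num) h1
      interval_cases h : orderOf x
      · omega
      · exact absurd (by norm_num) h2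
      · exact absurd (by norm_num) h2
      · omega
      · rfl
    have hVx : Subgroup.zpowers x = V := by
      apply Subgroup.eq_of_le_of_card_ge (by rwa [Subgroup.zpowers_le])
      rw [hV, Nat.card_zpowers, hx4]
    have hcyc : IsCyclic V := by rw [← hVx]; infer_instance
    set t := x * x with ht
    have htT : t ∈ T := hVT (V.mul_mem hxV hxV)
    have htt : t * t = 1 := by
      have h1 := pow_orderOf_eq_one x
      rw [hx4, show 4 = 2 + 2 from rfl, pow_add, pow_two] at h1
      exact h1
    -- `A ≤ C(t)`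
    have hAC : A ≤ Subgroup.centralizer ({t} : Set G) := by
      rw [← hN]
      intro g hg
      rw [Subgroup.mem_centralizer_singleton_iff]
      have h1 : g * x * g⁻¹ ∈ V := (Subgroup.mem_normalizer_iff.1 hg _).1 hxV
      rw [← hVx] at h1
      obtain ⟨n, hn⟩ := h1
      have hn' : x ^ n = g * x * g⁻¹ := hn
      have h2 : g * t * g⁻¹ = t ^ n := by
        have h3 : g * t * g⁻¹ = (g * x * g⁻¹) * (g * x * g⁻¹) := by rw [ht]; group
        rw [h3, ← hn', ht, (Commute.refl x).mul_zpow]
      have h4 : t ^ n = t := by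
        rcases Int.even_or_odd' n with ⟨k, rfl | rfl⟩
        · exfalso
          have h5 : t ^ (2 * k) = 1 := by
            rw [_root_.zpow_mul, zpow_ofNat, pow_two, htt, _root_.one_zpow]
          rw [h5] at h2
          apply hx
          have h6 : g * t * g⁻¹ = 1 := h2
          rwa [conj_eq_one_iff] at h6
        · rw [_root_.zpow_add, _root_.zpow_mul, zpow_ofNat, pow_two, htt, _root_.one_zpow, one_mul, zpow_one]
      rw [h4, mul_inv_eq_iff_eq_mul] at h2
      exact h2
    have hCne : Subgroup.centralizer ({t} : Set G) ≠ ⊤ := by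
      intro htop
      have h1 : t ∈ Subgroup.centralizer (T : Set G) := by
        rw [Subgroup.mem_centralizer_iff]
        intro y _
        have h2 : y ∈ Subgroup.centralizer ({t} : Set G) := by rw [htop]; trivial
        exact Subgroup.mem_centralizer_singleton_iff.1 h2
      rw [hC, Subgroup.mem_bot] at h1
      exact hx h1
    have hAeq : A = Subgroup.centralizer ({t} : Set G) := by
      rcases hAC.eq_or_lt with h | h
      · exact h
      · exact absurd (hmax.2 _ h) hCne
    have hcard := card_le_of_cyclic hV hcyc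
    rw [hN, hAeq] at hcard
    -- the centraliser of `t` in `T` is large
    set s : PSU 3 F 5 := e ⟨t, htT⟩ with hs
    have hs2 : orderOf s = 2 := by
      apply orderOf_eq_prime
      · rw [pow_two, hs, ← map_mul]
        have : (⟨t, htT⟩ : T) * ⟨t, htT⟩ = 1 := Subtype.ext htt
        rw [this, map_one]
      · intro h
        rw [hs, EmbeddingLike.map_eq_one_iff] at h
        exact hx (congrArg Subtype.val h)
    obtain ⟨y, hy⟩ := Cfsg.Agent.GTwoOdd.CentPSU.exists_conj_vv hF' (by decide) hs2
    have hlarge := cent_large hF'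
    have hle : Nat.card (Subgroup.centralizer ({vv (F := F) hF' (by decide : Odd 5)} : Set (PSU 3 F 5))) ≤
        Nat.card (Subgroup.centralizer ({t} : Set G)) := by
      refine Nat.card_le_card_of_injective (fun c => (⟨((e.symm (y * c.1 * y⁻¹) : T) : G), ?_⟩ :
        Subgroup.centralizer ({t} : Set G))) ?_
      · rw [Subgroup.mem_centralizer_singleton_iff]
        have h1 := Subgroup.mem_centralizer_singleton_iff.1 c.2
        have h2 : (y * c.1 * y⁻¹) * s = s * (y * c.1 * y⁻¹) := by
          rw [← hy]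
          calc y * c.1 * y⁻¹ * (y * vv hF' (by decide) * y⁻¹) = y * (c.1 * vv hF' (by decide)) * y⁻¹ := by group
            _ = y * (vv hF' (by decide) * c.1) * y⁻¹ := by rw [h1]
            _ = _ := by group
        have h3 : e.symm (y * c.1 * y⁻¹) * ⟨t, htT⟩ = ⟨t, htT⟩ * e.symm (y * c.1 * y⁻¹) := by
          apply e.injective
          rw [map_mul e, map_mul e, e.apply_symm_apply, ← hs]
          exact h2
        exact congrArg Subtype.val h3
      · intro c d hcd
        have h0 : ((e.symm (y * c.1 * y⁻¹) : T) : G) = ((e.symm (y * d.1 * y⁻¹) : T) : G) :=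
          congrArg (fun z : Subgroup.centralizer ({t} : Set G) => (z : G)) hcd
        have h1 := e.symm.injective (Subtype.ext h0)
        exact Subtype.ext (mul_left_cancel (mul_right_cancel h1))
    omega

end Cfsg.Agent.H817.UThreeFive
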