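import Cfsg.Agent.H817.CubeRank
import Cfsg.Agent.H817.CubeHeData
import Cfsg.Agent.FixBN.HeStab

/-!
# The row `He` of S5721 (helper817, task 240)

`|He| = 4030387200`; `B`, of order at most `14400`, is the stabiliser of the points `0` and `37` of the
representation on 2058 points (`37` is in a suborbit of length `136`); `116` double cosets of `B` cover.
-/

set_option autoImplicit false
set_option maxRecDepth 100000

namespace Cfsg.Agent.H817.CubeHe

open Cfsg.Agent.H383.Cube Cfsg.Agent.H817.CubeRank Cfsg.Agent.H817.CubeHeData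
open Cfsg.Spor Cfsg.Spor.He Cfsg.Agent.SporadicB.HePerm Cfsg.Agent.FixBN.HeData Cfsg.Agent.FixBN.HeStab

/-- membership in a list of numbers -/
def mem (y : ℕ) (R : List ℕ) : Bool := R.any fun z => Nat.beq z y

theorem mem_of {y : ℕ} {R : List ℕ} (h : mem y R = true) : y ∈ R := by
  rw [mem, List.any_eq_true] at h
  obtain ⟨z, hz, h⟩ := h
  rwa [← Nat.eq_of_beq_eq_true h]

/-- the point is a root or is moved to a point of smaller depth -/
def stepOK (ws : List (List Gen)) (s d : ℕ) (R : List ℕ) (y : ℕ) : Bool :=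
  or (mem y R) (Nat.blt (look4 d (act (nth ws (look4 s y)) y)) (look4 d y))

/-- **descent** -/
theorem descend {ws : List (List Gen)} {s d : ℕ} {R : List ℕ} (S : Subgroup He) (hS : ∀ w ∈ ws, wd w ∈ S)
    (Q : Fin 2058 → Prop) (hQ : ∀ b ∈ S, ∀ y, Q y → Q (phi b y))
    (hstep : ∀ y : Fin 2058, Q y → stepOK ws s d R y = true) (y : Fin 2058) (hy : Q y) :
    ∃ b ∈ S, ((phi b y : Fin 2058) : ℕ) ∈ R := by
  induction hn : look4 d y using Nat.strong_induction_on generalizing y with
  | _ n ih =>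
    have h := hstep y hy
    rw [stepOK, Bool.or_eq_true] at h
    rcases h with h | h
    · exact ⟨1, S.one_mem, by rw [map_one]; exact mem_of h⟩
    · have hw : wd (nth ws (look4 s y)) ∈ S := by
        rcases nth_mem ws (look4 s y) with h1 | h1
        · exact hS _ h1
        · rw [h1]; exact S.one_mem
      have h2 : ((phi (wd (nth ws (look4 s y))) y : Fin 2058) : ℕ) = act (nth ws (look4 s y)) y := phi_wd_apply _ _
      have h3 := Nat.le_of_ble_eq_true h
      rw [← h2] at h3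
      obtain ⟨b, hb, hb'⟩ := ih _ (by rw [← hn]; exact h3) (phi (wd (nth ws (look4 s y))) y) (hQ _ hw y hy) rfl
      exact ⟨b * wd (nth ws (look4 s y)), S.mul_mem hb hw, by rw [map_mul, Equiv.Perm.mul_apply]; exact hb'⟩

/-- the pointwise stabiliser of two points -/
noncomputable def fx (i : Fin 2058) : Subgroup He := (fixer i).comap phi

theorem mem_fx {i : Fin 2058} {g : He} : g ∈ fx i ↔ phi g i = i := Iff.rfl

/-- the stabiliser of the flag -/
noncomputable def B : Subgroup He := fx 0 ⊓ fx 37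

theorem mem_B {g : He} : g ∈ B ↔ phi g 0 = 0 ∧ phi g 37 = 37 := Iff.rfl

/-- the word fixes the point -/
def fixes (w : List Gen) (i : ℕ) : Bool := Nat.beq (act w i) i

theorem wd_mem_fx {w : List Gen} {i : Fin 2058} (h : fixes w i = true) : wd w ∈ fx i :=
  mem_fx.2 (Fin.ext ((phi_wd_apply w i).trans (Nat.eq_of_beq_eq_true h)))

/-- the check of a row -/
def rowOK (r : Row) : Bool :=
  and (r.ws.all fun w => and (fixes w 0) (and (fixes w 37) (fixes w r.x)))
    (and (Nat.beq (act r.g 0) r.x)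
      (allBelow 2058 fun z => or (not (Nat.beq (col z) (col 37))) (stepOK r.ws r.s r.d r.R (act r.g z))))

theorem chk0 : (ws0.all fun w => and (fixes w 0) (fixes w 37)) = true := by decide +kernel

theorem chk1 : allBelow 2058 (fun y => stepOK ws0 s0 d0 (rows.map Row.x) y) = true := by decide +kernel

theorem chk2 : rows.all rowOK = true := by decide +kernel

/-- the representatives of the orbits on the flags -/
def pairs : List (ℕ × ℕ) := rows.flatMap fun r => r.R.map fun y => (r.x, y)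

theorem length_pairs : pairs.length = 116 := by decide +kernel

open scoped Classical in
/-- an element which moves the flag `(0, 37)` to a given one -/
noncomputable def toFlag (p : ℕ × ℕ) : He :=
  if h : ∃ g : He, ((phi g 0 : Fin 2058) : ℕ) = p.1 ∧ ((phi g 37 : Fin 2058) : ℕ) = p.2 then h.choose else 1

theorem cover (t : He) : ∃ p ∈ pairs, ∃ b ∈ B, ∃ c ∈ B, t = b * toFlag p * c := by
  -- level 0
  have hB0 : ∀ w ∈ ws0, wd w ∈ B := by
    intro w hw
    have h := chk0
    rw [List.all_eq_true] at h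
    have h1 := h w hw
    rw [Bool.and_eq_true] at h1
    exact ⟨wd_mem_fx h1.1, wd_mem_fx h1.2⟩
  obtain ⟨b0, hb0, h0⟩ := descend B hB0 (fun _ => True) (fun _ _ _ _ => trivial)
    (fun y _ => of_allBelow chk1 y y.2) (phi t 0) trivial
  obtain ⟨r, hr, hrx⟩ := List.mem_map.1 h0
  have hrow := chk2
  rw [List.all_eq_true] at hrow
  have h1 := hrow r hr
  rw [rowOK, Bool.and_eq_true, Bool.and_eq_true] at h1
  obtain ⟨h1, h2, h3⟩ := h1
  rw [List.all_eq_true] at h1
  have h2' := Nat.eq_of_beq_eq_true h2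
  -- the point of the row
  have hx : ((phi (b0 * t) 0 : Fin 2058) : ℕ) = r.x := by
    rw [map_mul, Equiv.Perm.mul_apply]; exact hrx.symm
  set x : Fin 2058 := phi (b0 * t) 0 with hxdef
  have hS : ∀ w ∈ r.ws, wd w ∈ B ⊓ fx x := by
    intro w hw
    have h4 := h1 w hw
    rw [Bool.and_eq_true, Bool.and_eq_true] at h4
    refine ⟨⟨wd_mem_fx h4.1, wd_mem_fx h4.2.1⟩, wd_mem_fx ?_⟩
    rw [hx]; exact h4.2.2
  obtain ⟨b1, hb1, h5⟩ := descend (B ⊓ fx x) hS (fun y => ∃ u : He, phi u 0 = x ∧ phi u 37 = y) (by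
    rintro b hb y ⟨u, hu, hu'⟩
    refine ⟨b * u, ?_, ?_⟩
    · rw [map_mul, Equiv.Perm.mul_apply, hu]; exact hb.2
    · rw [map_mul, Equiv.Perm.mul_apply, hu']) (s := r.s) (d := r.d) (R := r.R) (by
    rintro y ⟨u, hu, hu'⟩
    -- the neighbour of `0` which corresponds to `y`
    have hg : phi ((wd r.g)⁻¹ * u) 0 = 0 := by
      have h6 : phi (wd r.g) 0 = x := Fin.ext (((phi_wd_apply r.g 0).trans h2').trans hx.symm)
      rw [map_mul, map_inv, Equiv.Perm.mul_apply, hu, ← h6, inv_app]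
    have h7 := col_inv hg 37
    have h8 := of_allBelow h3 (phi ((wd r.g)⁻¹ * u) 37) (Fin.is_lt _)
    rw [Bool.or_eq_true] at h8
    rcases h8 with h8 | h8
    · rw [h7] at h8
      exfalso
      revert h8
      change ¬ (!(Nat.beq (col 37) (col 37))) = true
      rw [Nat.beq_refl]
      decide
    · have h9 : act r.g (phi ((wd r.g)⁻¹ * u) 37 : Fin 2058) = (y : ℕ) := by
        rw [← phi_wd_apply, ← Equiv.Perm.mul_apply, ← map_mul, mul_inv_cancel_left, hu']
      rw [h9] at h8
      exact h8) (phi (b0 * t) 37) ⟨b0 * t, rfl, rfl⟩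
  set y : ℕ := ((phi b1 (phi (b0 * t) 37) : Fin 2058) : ℕ) with hy
  have hmem : (r.x, y) ∈ pairs := List.mem_flatMap.2 ⟨r, hr, List.mem_map.2 ⟨y, h5, rfl⟩⟩
  have hex : ∃ g : He, ((phi g 0 : Fin 2058) : ℕ) = (r.x, y).1 ∧ ((phi g 37 : Fin 2058) : ℕ) = (r.x, y).2 := by
    refine ⟨b1 * (b0 * t), ?_, ?_⟩
    · rw [map_mul, Equiv.Perm.mul_apply, ← hxdef, mem_fx.1 hb1.2]; exact hx
    · rw [map_mul, Equiv.Perm.mul_apply]
  have hto : toFlag (r.x, y) = hex.choose := by rw [toFlag, dif_pos hex]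
  obtain ⟨e1, e2⟩ := hex.choose_spec
  rw [← hto] at e1 e2
  refine ⟨(r.x, y), hmem, (b1 * b0)⁻¹, B.inv_mem (B.mul_mem hb1.1 hb0),
    (toFlag (r.x, y))⁻¹ * (b1 * (b0 * t)), ?_, by group⟩
  rw [mem_B]
  constructor
  · have h10 : phi (b1 * (b0 * t)) 0 = phi (toFlag (r.x, y)) 0 := by
      apply Fin.ext
      rw [e1, map_mul, Equiv.Perm.mul_apply, ← hxdef, mem_fx.1 hb1.2]; exact hx
    rw [map_mul, map_inv, Equiv.Perm.mul_apply, h10, inv_app]
  · have h10 : phi (b1 * (b0 * t)) 37 = phi (toFlag (r.x, y)) 37 := by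
      apply Fin.ext
      rw [e2, map_mul, Equiv.Perm.mul_apply]
    rw [map_mul, map_inv, Equiv.Perm.mul_apply, h10, inv_app]

theorem ordK3 : look Data.kOrd 1786 = 37 := by decide +kernel

theorem card_B_le : Nat.card B ≤ 14400 := by
  have e : Fin.ofNat 2058 (look Data.kOrd 1786) = (37 : Fin 2058) := by rw [ordK3]; rfl
  have s0 : 136 * Nat.card ↥(phi.range ⊓ fixer 0 ⊓ fixer 37) ≤ Nat.card ↥(phi.range ⊓ fixer 0) := by
    refine le_trans (Nat.mul_le_mul_right _ (card_pts treeK3).ge) ?_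
    apply chain_step _ _ (37 : Fin 2058) _ _ inf_le_left
    · intro k hk; exact mem_fixer.mp hk.2
    · intro y hy
      have := reach_pts treeK3 (phi.range ⊓ fixer 0) (fun w hw => prod_mem_stab hw) y hy
      rwa [e] at this
  have h1 := card_stab_le
  have h2 : Nat.card B ≤ Nat.card ↥(phi.range ⊓ fixer 0 ⊓ fixer 37) :=
    Nat.card_le_card_of_injective (fun g : B => (⟨phi g, ⟨⟨⟨g, rfl⟩, g.2.1⟩, g.2.2⟩⟩ :
      ↥(phi.range ⊓ fixer 0 ⊓ fixer 37))) fun g h hgh => Subtype.ext (phi_injective (congrArg Subtype.val hgh))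
  omega

theorem cubeBound_He : CubeBound He := by
  refine CubeRank.CubeBound.of_cover B (fun i : Fin 116 => toFlag (pairs.get (i.cast length_pairs.symm))) ?_ ?_
  · intro t
    obtain ⟨p, hp, b, hb, c, hc, h⟩ := cover t
    obtain ⟨i, hi⟩ := List.mem_iff_get.1 hp
    exact ⟨i.cast length_pairs, b, hb, c, hc, by rw [Fin.cast_cast, Fin.cast_eq_self, hi]; exact h⟩
  · rw [card_he]
    calc (Nat.card B * 116) ^ 3 ≤ (14400 * 116) ^ 3 := Nat.pow_le_pow_left (Nat.mul_le_mul_right _ card_B_le) 3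
      _ < 4030387200 ^ 2 := by norm_num

/-- **row `He`** -/
theorem cube_He {G : Type*} [Group G] (h : Cfsg.Spor.IsoHe G) : CubeBound G := by
  obtain ⟨e⟩ := h
  exact CubeBound.congr e.symm cubeBound_He

end Cfsg.Agent.H817.CubeHe
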