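import Mathlib

/-!
# Covering a set by orbits of known lengths, covering a group by double cosets (helper817, task 240)
-/

set_option autoImplicit false

namespace Cfsg.Agent.H817.OrbCover

/-- orbits of different lengths whose lengths add up to the number of points cover -/
theorem exists_mem_orbit {B X : Type*} [Group B] [MulAction B X] [Finite X] {r : ℕ} (p : Fin r → X) (n : Fin r → ℕ)
    (hn : ∀ i, (MulAction.orbit B (p i)).ncard = n i) (hinj : Function.Injective n)
    (hsum : ∑ i, n i = Nat.card X) (x : X) : ∃ i, x ∈ MulAction.orbit B (p i) := by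
  classical
  have : Fintype X := Fintype.ofFinite _
  have : ∀ i, Fintype (MulAction.orbit B (p i)) := fun i => Fintype.ofFinite _
  let f : (Σ i, MulAction.orbit B (p i)) → X := fun y => y.2
  have hf : Function.Injective f := by
    rintro ⟨i, x, hx⟩ ⟨j, y, hy⟩ h
    change x = y at h
    subst h
    have h1 : MulAction.orbit B (p i) = MulAction.orbit B (p j) := by
      rw [← MulAction.orbit_eq_iff.2 hx, ← MulAction.orbit_eq_iff.2 hy]
    have h2 : i = j := hinj (by rw [← hn, ← hn, h1])
    subst h2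
    rfl
  have hcard : Fintype.card (Σ i, MulAction.orbit B (p i)) = Fintype.card X := by
    rw [Fintype.card_sigma, ← Nat.card_eq_fintype_card (α := X), ← hsum]
    refine Finset.sum_congr rfl fun i _ => ?_
    rw [← hn i, ← Nat.card_eq_fintype_card]
    rfl
  have hs := ((Fintype.bijective_iff_injective_and_card f).2 ⟨hf, hcard⟩).2 x
  obtain ⟨⟨i, y, hy⟩, h⟩ := hs
  exact ⟨i, by rw [← h]; exact hy⟩

/-- from orbits of `B` on the cosets of `B` to double cosets -/
theorem cover_of_orbits {T : Type*} [Group T] (B : Subgroup T) {ι : Type*} (p : ι → T ⧸ B)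
    (hp : ∀ x : T ⧸ B, ∃ i, x ∈ MulAction.orbit B (p i)) :
    ∃ w : ι → T, ∀ g : T, ∃ i, ∃ b ∈ B, ∃ c ∈ B, g = b * w i * c := by
  choose w hw using fun i => QuotientGroup.mk_surjective (p i)
  refine ⟨w, fun g => ?_⟩
  obtain ⟨i, ⟨b, hb⟩, hi⟩ := hp (g : T ⧸ B)
  refine ⟨i, b, hb, (b * w i)⁻¹ * g, ?_, by group⟩
  rw [← QuotientGroup.eq]
  rw [← hw i] at hi
  exact hi

/-- the orbit of the trivial coset has length one -/
theorem ncard_orbit_one {T : Type*} [Group T] (B : Subgroup T) :
    (MulAction.orbit B ((1 : T) : T ⧸ B)).ncard = 1 := by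
  rw [Set.ncard_eq_one]
  refine ⟨((1 : T) : T ⧸ B), Set.eq_singleton_iff_unique_mem.2 ⟨MulAction.mem_orbit_self _, ?_⟩⟩
  rintro _ ⟨⟨b, hb⟩, rfl⟩
  change ((b * 1 : T) : T ⧸ B) = ((1 : T) : T ⧸ B)
  rw [QuotientGroup.eq, mul_one, mul_one]
  exact inv_mem hb

end Cfsg.Agent.H817.OrbCover
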