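import Cfsg.Agent.H817.CubeRank
import Cfsg.Agent.H817.OrbCover
import Cfsg.Agent.ONType.RepOrb
import Cfsg.Agent.SporRec.ONFinal
import Cfsg.Agent.SporRec.ONIndexUpper

/-!
# The row `ON` of S5721 (helper817, task 240)

`|ON| = 460815505920`, `H = L3(7)` extended by a graph automorphism, of order `3753792`, has rank five.
-/

set_option autoImplicit false

namespace Cfsg.Agent.H817.CubeON

open Cfsg.Agent.H383.Cube Cfsg.Agent.H817.CubeRank Cfsg.Agent.SporRec

theorem cubeBound_ON : CubeBound Cfsg.Spor.ON := by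
  obtain ⟨hi, hc, -⟩ := ONFinal.index_eq ONIndexUpper.index_ne_zero ONIndexUpper.index_le
  have hB : Nat.card ONAssembly.H = 3753792 := ONAssembly.card_H ONLower.ab_ne_one
  have hfin : Finite Cfsg.Spor.ON := Nat.finite_of_card_ne_zero (by rw [hc]; norm_num)
  obtain ⟨q₁, q₂, q₃, q₄, h1, h2, h3, h4⟩ := Cfsg.Agent.ONType.RepOrb.suborbits hi
  obtain ⟨w, hw⟩ := OrbCover.cover_of_orbits ONAssembly.H
    ![((1 : Cfsg.Spor.ON) : Cfsg.Spor.ON ⧸ ONAssembly.H), q₁, q₂, q₃, q₄]
    (OrbCover.exists_mem_orbit _ ![1, 6384, 5586, 58653, 52136]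
      (by
        intro i
        fin_cases i
        · exact OrbCover.ncard_orbit_one _
        · exact h1
        · exact h2
        · exact h3
        · exact h4)
      (by decide)
      (by
        rw [← Subgroup.index_eq_card, hi]
        rfl))
  refine CubeRank.CubeBound.of_cover ONAssembly.H w hw ?_
  rw [hc, hB]
  norm_num

/-- **row `ON`** -/
theorem cube_ON {G : Type*} [Group G] (h : Cfsg.Spor.IsoON G) : CubeBound G := by
  obtain ⟨e⟩ := h
  exact CubeBound.congr e.symm cubeBound_ON

end Cfsg.Agent.H817.CubeON
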