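import Cfsg.Agent.H730.PairRow
import Cfsg.Agent.H620.RowSporA
import Cfsg.Agent.H60.SpMcL
import Cfsg.Agent.H661.SporMcL

/-!
# The row of `McL` for S4938 (helper817)
-/

set_option autoImplicit false

namespace Cfsg.Agent.H817.PairMcL

open Cfsg Subgroup Equiv Cfsg.Agent.H620 Cfsg.Agent.H713 Cfsg.Agent.H620.SporCrit Cfsg.Agent.H620.RowSporA
open Cfsg.Agent.H665.NoPQ Cfsg.Agent.H419.Row Cfsg.Agent.H419.Count Cfsg.Agent.H419.LeechIrr
open Cfsg.Agent.H419.Spor.Mathieu Cfsg.Agent.H419.TwoTrans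
open Cfsg.Agent.H419.LeechFix Cfsg.Agent.Characters.Core
open Cfsg.Agent.SporadicA.Co0Mono Cfsg.Agent.SporadicA.Co1Simple Cfsg.Agent.Leech.Co0Elts
open Cfsg.Agent.H730.Pair
open Cfsg.Agent.TypeM.Two (MT)

/-- A group containing `M22` with a character of degree 22: the element of order 6 (after helper695). -/
theorem vz_six {S : Type*} [Group S] [Finite S] [IsSimpleGroup S] (μ : IrrCharacter S) (hμ1 : (μ : S → ℂ) 1 = 22)
    (k : St2 →* S) (ho : orderOf (k Cfsg.Agent.H419.Spor.HS.y6) = 6) : VZ S (k Cfsg.Agent.H419.Spor.HS.y6) := by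
  obtain ⟨θ, hθ1, hθ⟩ := exists_irr2
  have hθ21 : charDegree (θ : St2 → ℂ) = 21 := by
    have h1 := hθ 1
    have h2 : Nat.card (MulAction.fixedBy GolayPt (((1 : St2) : St1) : M24)) = 24 := by
      rw [Subgroup.coe_one, Subgroup.coe_one, MulAction.fixedBy_one_eq_univ, Nat.card_coe_set_eq,
        Set.ncard_univ, Nat.card_eq_fintype_card]
      decide
    rw [h2, Cfsg.Agent.Blocks.Basic.irr_one_eq_charDegree θ.2] at h1
    have h3 : (24 : ℕ) = 3 + charDegree (θ : St2 → ℂ) := by exact_mod_cast h1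
    omega
  have hθx : (θ : St2 → ℂ) Cfsg.Agent.H419.Spor.HS.y6 = -1 := by
    have h1 := hθ Cfsg.Agent.H419.Spor.HS.y6
    rw [Cfsg.Agent.H419.Spor.HS.y6_fix] at h1
    linear_combination -h1
  refine ⟨μ, fun α => ?_⟩
  have hirr : IsIrrCharacter S ((μ : S → ℂ) ∘ α) :=
    isIrr_comp (α : S →* S) α.surjective μ.2
  have hc := isCharacter_comp k (isIrr_isCharacter hirr)
  have h1 : (((μ : S → ℂ) ∘ α) ∘ k) 1 = 22 := by
    simp [hμ1]
  rcases Cfsg.Agent.H419.Spor.HS.char22 Cfsg.Agent.H419.Spor.HS.isM22 hθ21 hc h1 with h2 | h2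
  · exfalso
    have h3 : ((μ : S → ℂ) ∘ α) (k Cfsg.Agent.H419.Spor.HS.y6) = ((μ : S → ℂ) ∘ α) 1 := by
      have h4 := h2 Cfsg.Agent.H419.Spor.HS.y6
      rw [Function.comp_apply] at h4
      rw [h4]
      simp [hμ1]
    have hs : k Cfsg.Agent.H419.Spor.HS.y6 ≠ 1 := fun h => by
      rw [h, orderOf_one] at ho
      norm_num at ho
    have h4 := eq_one_of_const hirr hs h3
    have h5 := congrFun h4 1
    simp only [Function.comp_apply, map_one, hμ1, Pi.one_apply] at h5
    norm_num at h5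
  · have h3 := h2 Cfsg.Agent.H419.Spor.HS.y6
    rw [hθx] at h3
    simpa using h3

/-- a `VZ` element of order 6 -/
theorem exists_six {K : Type*} [Group K] (h : Spor.IsoMcL K) : ∃ x : K, VZ K x ∧ orderOf x = 6 := by
  obtain ⟨e⟩ := h
  obtain ⟨hs, hc⟩ := Cfsg.Agent.H713.Spor.McL.facts
  have hfin' := Nat.finite_of_card_ne_zero (α := ↥(Cfsg.Agent.SporadicRecognition.HSRank.K (-Spor.leechV) Spor.leechU))
    (by rw [hc]; norm_num)
  obtain ⟨μ, -, hμ⟩ := Cfsg.Agent.H713.Spor.McL.exists_22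
  have hdeg := Cfsg.Agent.H713.Spor.HS.degree_of_lchi hμ
  have hμ1 : (μ : ↥(Cfsg.Agent.SporadicRecognition.HSRank.K (-Spor.leechV) Spor.leechU) → ℂ) 1 = 22 := by
    have h1 : charDegree (μ : ↥(Cfsg.Agent.SporadicRecognition.HSRank.K (-Spor.leechV) Spor.leechU) → ℂ) = 22 := by omega
    rw [Cfsg.Agent.Blocks.Basic.irr_one_eq_charDegree μ.2, h1]
    norm_num
  have ho : orderOf (Cfsg.Agent.H713.Spor.McL.k Cfsg.Agent.H419.Spor.HS.y6) = 6 := by
    have h1 : orderOf ((Cfsg.Agent.SporadicRecognition.HSRank.K (-Spor.leechV) Spor.leechU).subtype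
        (Cfsg.Agent.H713.Spor.McL.k Cfsg.Agent.H419.Spor.HS.y6)) = 6 := by
      show orderOf (permCo0 ((Cfsg.Agent.H419.Spor.HS.y6 : St1) : M24)) = 6
      rw [orderOf_injective permCo0 Cfsg.Agent.CoOneType.Thirteen.permCo0_injective,
        Subgroup.orderOf_coe, Subgroup.orderOf_coe]
      exact Cfsg.Agent.H419.Spor.HS.y6_order
    rwa [orderOf_injective _ (Subgroup.subtype_injective _)] at h1
  exact ⟨_, (vz_six μ hμ1 _ ho).mulEquiv (Cfsg.Agent.H713.Spor.McL.mclEquiv.symm.trans e.symm), by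
    rw [MulEquiv.orderOf_eq, ho]⟩

/-- no element of order 21 in `S_8` -/
theorem perm_no21 {σ τ : Perm (Fin 8)} (hσ : orderOf σ = 7) (hτ : orderOf τ = 3) (h : σ * τ = τ * σ) : False := by
  obtain ⟨n, hn⟩ := Perm.cycleType_prime_order (σ := σ) (by rw [hσ]; norm_num)
  have h1 := Perm.sum_cycleType_le σ
  rw [hn, Multiset.sum_replicate, hσ, Fintype.card_fin, smul_eq_mul] at h1
  have h2 : n = 0 := by omega
  subst h2
  rw [hσ, zero_add, Multiset.replicate_one] at hn
  have h3 : Nat.card ↥(centralizer ({σ} : Set (Perm (Fin 8)))) = 7 := by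
    rw [Perm.nat_card_centralizer, hn, Fintype.card_fin]
    decide
  have h4 : τ ∈ centralizer ({σ} : Set (Perm (Fin 8))) := mem_centralizer_singleton_iff.2 h.symm
  have h5 := orderOf_dvd_natCard (⟨τ, h4⟩ : ↥(centralizer ({σ} : Set (Perm (Fin 8)))))
  rw [h3, Subgroup.orderOf_mk, hτ] at h5
  norm_num at h5

/-- neither 7 nor 11 divides the order of the centralizer of an element of order 6 -/
theorem cent_six {K : Type*} [Group K] (h : Spor.IsoMcL K) {x : K} (hx : orderOf x = 6) :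
    ¬ 7 ∣ Nat.card ↥(centralizer ({x} : Set K)) ∧ ¬ 11 ∣ Nat.card ↥(centralizer ({x} : Set K)) := by
  obtain ⟨hfin, hs, hcard, ⟨L⟩⟩ := TypeM.FactsMcL.facts h
  have h3 : orderOf (x ^ 3) = 2 := by
    rw [orderOf_pow' x (by norm_num), hx]
    rfl
  have h2 : orderOf (x ^ 2) = 3 := by
    rw [orderOf_pow' x (by norm_num), hx]
    rfl
  have h33 : x ^ 3 * x ^ 3 = 1 := by rw [← pow_two, ← h3, pow_orderOf_eq_one]
  have h31 : x ^ 3 ≠ 1 := by
    intro h4
    rw [h4, orderOf_one] at h3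
    norm_num at h3
  obtain ⟨L1, hL1⟩ := L.exists_rebase h33 h31
  constructor
  · intro h7
    have : Fact (Nat.Prime 7) := ⟨by norm_num⟩
    obtain ⟨y, hy⟩ := exists_prime_orderOf_dvd_card' (G := ↥(centralizer ({x} : Set K))) 7 h7
    have hyx : (y : K) * x = x * y := mem_centralizer_singleton_iff.1 y.2
    have hyC : (y : K) ∈ centralizer ({L1.t} : Set K) := by
      rw [mem_centralizer_singleton_iff, hL1]
      exact ((show Commute (y : K) x from hyx).pow_right 3)
    have hxC : x ^ 2 ∈ centralizer ({L1.t} : Set K) := by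
      rw [mem_centralizer_singleton_iff, hL1, ← pow_add, ← pow_add]
    have hy7 : orderOf (⟨y, hyC⟩ : ↥(centralizer ({L1.t} : Set K))) = 7 := by
      rw [Subgroup.orderOf_mk, Subgroup.orderOf_coe, hy]
    have hx3 : orderOf (⟨x ^ 2, hxC⟩ : ↥(centralizer ({L1.t} : Set K))) = 3 := by
      rw [Subgroup.orderOf_mk, h2]
    have hcomm : (⟨y, hyC⟩ : ↥(centralizer ({L1.t} : Set K))) * ⟨x ^ 2, hxC⟩ = ⟨x ^ 2, hxC⟩ * ⟨y, hyC⟩ :=
      Subtype.ext ((show Commute (y : K) x from hyx).pow_right 2)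
    have hπ : ∀ {g : ↥(centralizer ({L1.t} : Set K))} {l : ℕ}, l.Prime → l ≠ 2 → orderOf g = l →
        orderOf (L1.K.π g) = l := by
      intro g l hl hl2 hg
      have : Fact l.Prime := ⟨hl⟩
      apply orderOf_eq_prime
      · rw [← map_pow, ← hg, pow_orderOf_eq_one, map_one]
      · intro h1
        rcases (L1.K.ker g).1 h1 with h4 | h4
        · rw [h4, orderOf_one] at hg
          exact hl.one_lt.ne hg
        · rw [h4, L1.K.orderOf_z] at hg
          exact hl2 hg.symm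
    refine perm_no21 (hπ (by norm_num) (by norm_num) hy7) (hπ (by norm_num) (by norm_num) hx3) ?_
    rw [← map_mul, hcomm, map_mul]
  · intro h11
    have h4 : centralizer ({x} : Set K) ≤ centralizer ({L1.t} : Set K) := by
      intro y hy
      rw [mem_centralizer_singleton_iff] at hy ⊢
      rw [hL1]
      exact (show Commute y x from hy).pow_right 3
    have h5 := h11.trans (card_dvd_of_le h4)
    rw [Cfsg.Agent.H661.Spor.McL.card_C L1] at h5
    norm_num at h5

theorem pairRow {K : Type*} [Group K] (h : Spor.IsoMcL K) : PairRow K := by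
  obtain ⟨hfin, hs, hcard, -⟩ := TypeM.FactsMcL.facts h
  have h11 : HasDZ 11 K := by
    obtain ⟨e⟩ := h
    exact HasDZ.mulEquiv e.symm hasDZ_mcl
  have hp11 : Fact (Nat.Prime 11) := ⟨by norm_num⟩
  obtain ⟨x14, -, v14, c14⟩ := Cfsg.Agent.H419.Spor.McL.rowC h
  obtain ⟨x11, o11⟩ := exists_prime_orderOf_dvd_card' (G := K) 11 (by rw [hcard]; norm_num)
  have v11 : VZ K x11 := HasDZ.vz (p := 11) h11 (by rw [o11])
  have c11 := Cfsg.Agent.H60.SpMcL.card_cent_eleven h o11
  obtain ⟨x6, v6, o6⟩ := exists_six h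
  obtain ⟨c67, c611⟩ := cent_six h o6
  have hpr : ∀ p : ℕ, p.Prime → p ∣ Nat.card K → p = 2 ∨ p = 3 ∨ p = 5 ∨ p = 7 ∨ p = 11 := by
    intro p hp hd
    rw [hcard, show 898128000 = 2 ^ 7 * 3 ^ 6 * 5 ^ 3 * 7 * 11 by norm_num] at hd
    rcases (Nat.Prime.dvd_mul hp).1 hd with hd | hd
    · rcases (Nat.Prime.dvd_mul hp).1 hd with hd | hd
      · rcases (Nat.Prime.dvd_mul hp).1 hd with hd | hd
        · rcases (Nat.Prime.dvd_mul hp).1 hd with hd | hd
          · exact Or.inl ((Nat.prime_dvd_prime_iff_eq hp (by norm_num)).1 (hp.dvd_of_dvd_pow hd))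
          · exact Or.inr (Or.inl ((Nat.prime_dvd_prime_iff_eq hp (by norm_num)).1 (hp.dvd_of_dvd_pow hd)))
        · exact Or.inr (Or.inr (Or.inl ((Nat.prime_dvd_prime_iff_eq hp (by norm_num)).1 (hp.dvd_of_dvd_pow hd))))
      · exact Or.inr (Or.inr (Or.inr (Or.inl ((Nat.prime_dvd_prime_iff_eq hp (by norm_num)).1 hd))))
    · exact Or.inr (Or.inr (Or.inr (Or.inr ((Nat.prime_dvd_prime_iff_eq hp (by norm_num)).1 hd))))
  -- `14`
  have i14 : ∀ p : ℕ, p = 2 ∨ p = 3 ∨ p = 5 ∨ p = 11 → p ∣ (centralizer ({x14} : Set K)).index := by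
    rintro p (rfl | rfl | rfl | rfl)
    · exact dvd_index_of_not_dvd (k := 7) (by norm_num) (by rw [hcard]; norm_num) (by rw [c14]; norm_num)
    · exact dvd_index_of_not_dvd (k := 6) (by norm_num) (by rw [hcard]; norm_num) (by rw [c14]; norm_num)
    · exact dvd_index_of_not_dvd (k := 3) (by norm_num) (by rw [hcard]; norm_num) (by rw [c14]; norm_num)
    · exact dvd_index_of_not_dvd (k := 1) (by norm_num) (by rw [hcard]; norm_num) (by rw [c14]; norm_num)
  have i11 : ∀ p : ℕ, p = 2 ∨ p = 3 ∨ p = 5 ∨ p = 7 → p ∣ (centralizer ({x11} : Set K)).index := by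
    rintro p (rfl | rfl | rfl | rfl)
    · exact dvd_index_of_not_dvd (k := 7) (by norm_num) (by rw [hcard]; norm_num) (by rw [c11]; norm_num)
    · exact dvd_index_of_not_dvd (k := 6) (by norm_num) (by rw [hcard]; norm_num) (by rw [c11]; norm_num)
    · exact dvd_index_of_not_dvd (k := 3) (by norm_num) (by rw [hcard]; norm_num) (by rw [c11]; norm_num)
    · exact dvd_index_of_not_dvd (k := 1) (by norm_num) (by rw [hcard]; norm_num) (by rw [c11]; norm_num)
  have i6 : ∀ p : ℕ, p = 7 ∨ p = 11 → p ∣ (centralizer ({x6} : Set K)).index := by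
    rintro p (rfl | rfl)
    · exact dvd_index_of_not_dvd (k := 1) (by norm_num) (by rw [hcard]; norm_num) (by rwa [pow_one])
    · exact dvd_index_of_not_dvd (k := 1) (by norm_num) (by rw [hcard]; norm_num) (by rwa [pow_one])
  intro p q hp hq hpq hpK hqK
  have hp' := hpr p hp hpK
  have hq' := hpr q hq hqK
  by_cases h1 : p = 7 ∨ q = 7
  · by_cases h2 : p = 11 ∨ q = 11
    · exact ⟨x6, v6, i6 p (by omega), i6 q (by omega)⟩
    · exact ⟨x11, v11, i11 p (by omega), i11 q (by omega)⟩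
  · exact ⟨x14, v14, i14 p (by omega), i14 q (by omega)⟩

end Cfsg.Agent.H817.PairMcL
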