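import Mathlib
import Cfsg.Agent.H383.Cube.DC

/-!
# Twisted double cosets are not more numerous than the plain ones (helper817, task 240 for S5721)

`B` a subgroup of the finite group `T`, `α` ANY automorphism of `T` (it need not normalise the class of `B`).
The number of double cosets `B x α(B)` is `(1/|T|) ∑ f(g) f(α⁻¹ g)`, `f` the permutation character on `T ⧸ B`, hence
at most `(1/|T|) ∑ f(g) ^ 2`, the rank of `T ⧸ B`.

* `TwOm B β` : the set `(T ⧸ B) × (T ⧸ B)` with the action `g • (p, q) = (g • p, β g • q)`;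
* `twrank_le` : its number of orbits is at most the one for `β = 1`;
* `card_tw_le_rank` : `|Tw α| ≤ |B| r`, `r` the rank of `T ⧸ B`;
* `CubeBound.of_cover` : if `r` double cosets of `B` cover `T` and `(r |B|) ^ 3 < |T| ^ 2`, then `CubeBound T`.
-/

set_option autoImplicit false

namespace Cfsg.Agent.H817.CubeRank

open Cfsg.Agent.H383.Cube

variable {T : Type*} [Group T]

/-- pairs of cosets -/
def TwOm (B : Subgroup T) (_β : MulAut T) : Type _ := (T ⧸ B) × (T ⧸ B)

/-- the action twisted on the second coordinate -/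
instance twOmAction (B : Subgroup T) (β : MulAut T) : MulAction T (TwOm B β) where
  smul g p := (g • p.1, β g • p.2)
  one_smul p := by
    change ((1 : T) • p.1, β 1 • p.2) = p
    rw [map_one, one_smul, one_smul]
    rfl
  mul_smul g h p := by
    change ((g * h) • p.1, β (g * h) • p.2) = (g • h • p.1, β g • β h • p.2)
    rw [map_mul, mul_smul, mul_smul]

theorem tw_smul_def (B : Subgroup T) (β : MulAut T) (g : T) (p : TwOm B β) :
    g • p = ((g • p.1, β g • p.2) : (T ⧸ B) × (T ⧸ B)) := rfl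

/-- a pair of cosets -/
def tmk (B : Subgroup T) (β : MulAut T) (p q : T ⧸ B) : TwOm B β := (p, q)

theorem smul_tmk (B : Subgroup T) (β : MulAut T) (g : T) (p q : T ⧸ B) :
    g • tmk B β p q = tmk B β (g • p) (β g • q) := rfl

theorem tmk_inj {B : Subgroup T} {β : MulAut T} {p q p' q' : T ⧸ B} (h : tmk B β p q = tmk B β p' q') :
    p = p' ∧ q = q' := Prod.mk.inj h

theorem tmk_orbit {B : Subgroup T} {β : MulAut T} {p q p' q' : T ⧸ B} :
    (Quotient.mk'' (tmk B β p q) : MulAction.orbitRel.Quotient T (TwOm B β)) = Quotient.mk'' (tmk B β p' q') ↔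
      ∃ g : T, g • p' = p ∧ β g • q' = q := by
  rw [Quotient.eq'', MulAction.orbitRel_apply]
  constructor
  · rintro ⟨g, hg⟩
    exact ⟨g, tmk_inj hg⟩
  · rintro ⟨g, h1, h2⟩
    exact ⟨g, Prod.ext h1 h2⟩

/-- the number of twisted orbits -/
noncomputable def twrank (B : Subgroup T) (β : MulAut T) : ℕ := Nat.card (MulAction.orbitRel.Quotient T (TwOm B β))

instance twOmFinite [Finite T] (B : Subgroup T) (β : MulAut T) : Finite (TwOm B β) :=
  inferInstanceAs (Finite ((T ⧸ B) × (T ⧸ B)))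

/-- the permutation character -/
noncomputable def pch (B : Subgroup T) (g : T) : ℕ := Nat.card (MulAction.fixedBy (T ⧸ B) g)

theorem card_fixedBy_tw (B : Subgroup T) (β : MulAut T) (g : T) :
    Nat.card (MulAction.fixedBy (TwOm B β) g) = pch B g * pch B (β g) := by
  rw [pch, pch, ← Nat.card_prod]
  exact Nat.card_congr
    { toFun := fun p => (⟨p.1.1, (Prod.mk.inj (p.2 : ((g • p.1.1, β g • p.1.2) : (T ⧸ B) × (T ⧸ B)) = p.1)).1⟩,
        ⟨p.1.2, (Prod.mk.inj (p.2 : ((g • p.1.1, β g • p.1.2) : (T ⧸ B) × (T ⧸ B)) = p.1)).2⟩)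
      invFun := fun p => ⟨(p.1.1, p.2.1), Prod.ext p.1.2 p.2.2⟩
      left_inv := fun p => rfl
      right_inv := fun p => rfl }

theorem burnside [Fintype T] (B : Subgroup T) (β : MulAut T) :
    ∑ g : T, pch B g * pch B (β g) = twrank B β * Nat.card T := by
  classical
  have : Fintype (MulAction.orbitRel.Quotient T (TwOm B β)) := Fintype.ofFinite _
  have h2 : ∀ g : T, Fintype (MulAction.fixedBy (TwOm B β) g) := fun g => Fintype.ofFinite _
  have h := MulAction.sum_card_fixedBy_eq_card_orbits_mul_card_group T (TwOm B β)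
  rw [← Nat.card_eq_fintype_card, ← Nat.card_eq_fintype_card (α := T)] at h
  rw [twrank, MulAction.orbitRel.Quotient, ← h]
  refine Finset.sum_congr rfl fun g _ => ?_
  rw [← Nat.card_eq_fintype_card, card_fixedBy_tw]

/-- **the twisted rank is at most the rank** -/
theorem twrank_le [Finite T] (B : Subgroup T) (β : MulAut T) : twrank B β ≤ twrank B 1 := by
  classical
  have : Fintype T := Fintype.ofFinite _
  have h1 := burnside B β
  have h2 := burnside B 1
  have h3 : ∑ g : T, pch B (β g) ^ 2 = ∑ g : T, pch B g ^ 2 := Equiv.sum_comp β.toEquiv fun g => pch B g ^ 2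
  have h4 : 2 * ∑ g : T, pch B g * pch B (β g) ≤ ∑ g : T, pch B g ^ 2 + ∑ g : T, pch B (β g) ^ 2 := by
    rw [Finset.mul_sum, ← Finset.sum_add_distrib]
    refine Finset.sum_le_sum fun g _ => ?_
    rw [← mul_assoc]
    exact two_mul_le_add_sq _ _
  have h5 : ∑ g : T, pch B g * pch B ((1 : MulAut T) g) = ∑ g : T, pch B g ^ 2 :=
    Finset.sum_congr rfl fun g _ => (sq _).symm
  have h6 : 0 < Nat.card T := Nat.card_pos
  have h7 : twrank B β * Nat.card T ≤ twrank B 1 * Nat.card T := by omega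
  exact Nat.le_of_mul_le_mul_right h7 h6

/-- the rank from a covering by double cosets -/
theorem twrank_one_le [Finite T] (B : Subgroup T) {ι : Type*} [Finite ι] (w : ι → T)
    (hw : ∀ g : T, ∃ i, ∃ b ∈ B, ∃ c ∈ B, g = b * w i * c) : twrank B 1 ≤ Nat.card ι := by
  refine Nat.card_le_card_of_surjective (fun i : ι => (Quotient.mk'' (tmk B 1 ((1 : T) : T ⧸ B) ((w i : T) : T ⧸ B)) :
    MulAction.orbitRel.Quotient T (TwOm B 1))) ?_
  intro q
  induction q using Quotient.inductionOn' with | h p => ?_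
  change ∃ i, _ = Quotient.mk'' (tmk B 1 p.1 p.2)
  obtain ⟨p, q⟩ := p
  change ∃ i, _ = Quotient.mk'' (tmk B 1 p q)
  induction p using QuotientGroup.induction_on with | H x => ?_
  induction q using QuotientGroup.induction_on with | H y => ?_
  obtain ⟨i, b, hb, c, hc, hg⟩ := hw (x⁻¹ * y)
  refine ⟨i, tmk_orbit.2 ⟨(x * b)⁻¹, ?_, ?_⟩⟩
  · rw [MulAction.Quotient.smul_coe, smul_eq_mul, QuotientGroup.eq]
    have : ((x * b)⁻¹ * x)⁻¹ * 1 = b := by group
    rw [this]; exact hb
  · rw [MulAut.one_apply, MulAction.Quotient.smul_coe, smul_eq_mul, QuotientGroup.eq]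
    have h1 : y = x * (b * w i * c) := by rw [← hg]; group
    have : ((x * b)⁻¹ * y)⁻¹ * w i = c⁻¹ := by rw [h1]; group
    rw [this]; exact inv_mem hc

/-- **`|Tw α| ≤ |B| · rank`** for every automorphism `α` with `α² = 1` -/
theorem card_tw_le_rank [Finite T] {α : MulAut T} (hα : α * α = 1) (B : Subgroup T) :
    Nat.card (Tw α) ≤ Nat.card B * twrank B 1 := by
  classical
  have : Fintype (MulAction.orbitRel.Quotient T (TwOm B α⁻¹)) := Fintype.ofFinite _
  have h := card_tw_le hα B (fun x => (Quotient.mk'' (tmk B α⁻¹ ((x⁻¹ : T) : T ⧸ B) ((1 : T) : T ⧸ B)) :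
    MulAction.orbitRel.Quotient T (TwOm B α⁻¹))) Finset.univ (fun _ _ => Finset.mem_univ _) ?_
  · rw [Finset.card_univ, ← Nat.card_eq_fintype_card] at h
    exact h.trans (Nat.mul_le_mul_left _ (twrank_le B α⁻¹))
  · intro x _ y _ hxy
    obtain ⟨g, h2, h3⟩ := tmk_orbit.1 hxy
    rw [MulAction.Quotient.smul_coe, smul_eq_mul, QuotientGroup.eq] at h2 h3
    rw [mul_one, mul_one] at h3
    -- h2 : (g * y⁻¹)⁻¹ * x⁻¹ ∈ B;  h3 : (α⁻¹ g)⁻¹ ∈ B
    refine ⟨(g * y⁻¹)⁻¹ * x⁻¹, h2, α⁻¹ g, inv_mem_iff.1 h3, ?_⟩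
    have h4 : α (α⁻¹ g) = g := by
      rw [← MulAut.mul_apply, mul_inv_cancel, MulAut.one_apply]
    rw [h4]
    group

/-- **the criterion** -/
theorem CubeBound.of_rank [Finite T] (B : Subgroup T) {r : ℕ} (hr : twrank B 1 ≤ r)
    (h : (Nat.card B * r) ^ 3 < Nat.card T ^ 2) : CubeBound T :=
  CubeBound.of_tw fun _ hα => lt_of_le_of_lt (Nat.pow_le_pow_left ((card_tw_le_rank (mul_self_of_order hα) B).trans
    (Nat.mul_le_mul_left _ hr)) 3) h

/-- **the criterion, with a covering by double cosets** -/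
theorem CubeBound.of_cover [Finite T] (B : Subgroup T) {r : ℕ} (w : Fin r → T)
    (hw : ∀ g : T, ∃ i, ∃ b ∈ B, ∃ c ∈ B, g = b * w i * c) (h : (Nat.card B * r) ^ 3 < Nat.card T ^ 2) :
    CubeBound T :=
  CubeBound.of_rank B ((twrank_one_le B w hw).trans_eq (Nat.card_fin r)) h

end Cfsg.Agent.H817.CubeRank
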