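import Cfsg.Agent.H817.ThinBase

/-!
# Thin groups: a four-group, an element of order 3 acting on it and one centralising it (helper817)
-/

set_option autoImplicit false

namespace Cfsg.Agent.H817.Thin

open Cfsg Subgroup Cfsg.Agent.ETable

variable {G : Type*} [Group G]

theorem mem_normalizer_closure {S : Set G} {g : G} (h1 : ∀ s ∈ S, g * s * g⁻¹ ∈ closure S)
    (h2 : ∀ s ∈ S, g⁻¹ * s * g ∈ closure S) : g ∈ normalizer ((closure S : Subgroup G) : Set G) := by
  have key : ∀ g : G, (∀ s ∈ S, g * s * g⁻¹ ∈ closure S) → ∀ x ∈ closure S, g * x * g⁻¹ ∈ closure S := by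
    intro g h x hx
    induction hx using Subgroup.closure_induction with
    | mem z hz => exact h z hz
    | one => rw [mul_one, mul_inv_cancel]; exact one_mem _
    | mul a b ha hb iha ihb =>
      have : g * (a * b) * g⁻¹ = (g * a * g⁻¹) * (g * b * g⁻¹) := by group
      rw [this]; exact mul_mem iha ihb
    | inv a ha ih =>
      have : g * a⁻¹ * g⁻¹ = (g * a * g⁻¹)⁻¹ := by group
      rw [this]; exact inv_mem ih
  rw [mem_normalizer_iff]
  intro x
  refine ⟨fun hx => key g h1 x hx, fun hx => ?_⟩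
  have h3 := key g⁻¹ (fun s hs => by rw [inv_inv]; exact h2 s hs) _ hx
  have e : g⁻¹ * (g * x * g⁻¹) * g⁻¹⁻¹ = x := by group
  rwa [e] at h3

/-- `A₄ × 3` -/
theorem ewit_of_four [Finite G] {t1 t2 x y : G} (h1 : t1 * t1 = 1) (h2 : t2 * t2 = 1) (h12 : t1 * t2 = t2 * t1)
    (ht : t1 ≠ 1) (ht2 : t1 ≠ t2) (hx : x ^ 3 = 1) (hy : y ^ 3 = 1) (hy1 : y ≠ 1) (hxy : x * y = y * x)
    (c1 : x * t1 = t2 * x) (c2 : x * t2 = t1 * t2 * x) (d1 : y * t1 = t1 * y) (d2 : y * t2 = t2 * y) : EWit 2 G := by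
  have hx3 : x * x * x = 1 := by rw [← hx, pow_succ, pow_two]
  have hxi : x⁻¹ = x * x := inv_eq_of_mul_eq_one_left hx3
  have e1 : x * t1 * x⁻¹ = t2 := by rw [c1, mul_inv_cancel_right]
  have e2 : x * t2 * x⁻¹ = t1 * t2 := by rw [c2, mul_inv_cancel_right]
  have e3 : x * (t1 * t2) * x⁻¹ = t1 := by
    have : x * (t1 * t2) * x⁻¹ = (x * t1 * x⁻¹) * (x * t2 * x⁻¹) := by group
    rw [this, e1, e2, h12, ← mul_assoc, h2, one_mul]
  have m1 : t1 ∈ closure {t1, t2} := subset_closure (Set.mem_insert _ _)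
  have m2 : t2 ∈ closure {t1, t2} := subset_closure (Set.mem_insert_of_mem _ rfl)
  refine ewit_two_of_pair Nat.prime_three (by norm_num) hx hy hxy ?_ ?_ (closure {t1, t2}) ?_ ?_ ?_ ?_
  · rintro rfl
    rw [one_mul, mul_one] at c1
    exact ht2 c1
  · intro hmem
    have hyy : ∀ n : ℤ, Commute (y ^ n) t1 := fun n => Commute.zpow_left d1 n
    have hcx : Commute x t1 := by
      -- `x` is a power of `y`
      have hoy : orderOf y = 3 := orderOf_eq_prime hy hy1
      have hox : orderOf x ∣ 3 := orderOf_dvd_of_pow_eq_one hx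
      have hle : zpowers y ≤ zpowers x := by rw [zpowers_le]; exact hmem
      have heq : zpowers y = zpowers x := by
        refine Subgroup.eq_of_le_of_card_ge hle ?_
        rw [Nat.card_zpowers, Nat.card_zpowers, hoy]
        exact Nat.le_of_dvd (by norm_num) hox
      obtain ⟨n, hn⟩ := mem_zpowers_iff.1 (heq ▸ mem_zpowers x : x ∈ zpowers y)
      rw [← hn]
      exact hyy n
    have : t2 = t1 := by
      rw [← e1, hcx.eq, mul_inv_cancel_right]
    exact ht2 this.symm
  · -- an elementary abelian 2-group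
    have hcomm : IsMulCommutative (closure {t1, t2}) := by
      refine Subgroup.isMulCommutative_closure ?_
      intro a ha b hb
      rcases ha with rfl | ha <;> rcases hb with rfl | hb
      · rfl
      · rw [Set.mem_singleton_iff.1 hb]; exact h12
      · rw [Set.mem_singleton_iff.1 ha]; exact h12.symm
      · rw [Set.mem_singleton_iff.1 ha, Set.mem_singleton_iff.1 hb]
    have hc : ∀ a ∈ closure {t1, t2}, ∀ b ∈ closure {t1, t2}, a * b = b * a := fun a ha b hb =>
      congrArg (fun z : closure {t1, t2} => (z : G)) (hcomm.is_comm.comm ⟨a, ha⟩ ⟨b, hb⟩)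
    rintro ⟨a, ha⟩
    refine ⟨1, Subtype.ext ?_⟩
    show a ^ (2 ^ 1) = 1
    rw [pow_one, pow_two]
    induction ha using Subgroup.closure_induction with
    | mem z hz =>
      rcases hz with rfl | hz
      · exact h1
      · rw [Set.mem_singleton_iff.1 hz]; exact h2
    | one => exact one_mul 1
    | mul a b ha hb iha ihb =>
      calc a * b * (a * b) = a * (b * a) * b := by group
        _ = a * (a * b) * b := by rw [hc b hb a ha]
        _ = (a * a) * (b * b) := by group
        _ = 1 := by rw [iha, ihb, one_mul]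
    | inv a ha ih => rw [← mul_inv_rev, ih, inv_one]
  · intro h
    rw [h, mem_bot] at m1
    exact ht m1
  · refine mem_normalizer_closure ?_ ?_
    · rintro s (rfl | hs)
      · rw [e1]; exact m2
      · rw [Set.mem_singleton_iff.1 hs, e2]; exact mul_mem m1 m2
    · rintro s (rfl | hs)
      · have : x⁻¹ * s * x = s * t2 := by
          have h3 : s = x * (s * t2) * x⁻¹ := e3.symm
          calc x⁻¹ * s * x = x⁻¹ * (x * (s * t2) * x⁻¹) * x := by rw [← h3]
            _ = s * t2 := by group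
        rw [this]; exact mul_mem m1 m2
      · have : x⁻¹ * s * x = t1 := by
          rw [Set.mem_singleton_iff.1 hs, ← e1]; group
        rw [this]; exact m1
  · refine mem_normalizer_closure ?_ ?_
    · rintro s (rfl | hs)
      · rw [d1, mul_inv_cancel_right]; exact m1
      · rw [Set.mem_singleton_iff.1 hs, d2, mul_inv_cancel_right]; exact m2
    · rintro s (rfl | hs)
      · rw [mul_assoc, ← d1, inv_mul_cancel_left]; exact m1
      · rw [Set.mem_singleton_iff.1 hs, mul_assoc, ← d2, inv_mul_cancel_left]; exact m2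

/-- the same in a subgroup, with the relations in the ambient group -/
theorem ewit_of_four_sub {H : Subgroup G} [Finite H] {t1 t2 x y : G} (i1 : t1 ∈ H) (i2 : t2 ∈ H) (ix : x ∈ H)
    (iy : y ∈ H) (h1 : t1 * t1 = 1) (h2 : t2 * t2 = 1) (h12 : t1 * t2 = t2 * t1)
    (ht : t1 ≠ 1) (ht2 : t1 ≠ t2) (hx : x ^ 3 = 1) (hy : y ^ 3 = 1) (hy1 : y ≠ 1) (hxy : x * y = y * x)
    (c1 : x * t1 = t2 * x) (c2 : x * t2 = t1 * t2 * x) (d1 : y * t1 = t1 * y) (d2 : y * t2 = t2 * y) :
    EWit 2 H :=
  ewit_of_four (t1 := (⟨t1, i1⟩ : H)) (t2 := ⟨t2, i2⟩) (x := ⟨x, ix⟩) (y := ⟨y, iy⟩) (Subtype.ext h1)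
    (Subtype.ext h2) (Subtype.ext h12) (fun h => ht (congrArg Subtype.val h)) (fun h => ht2 (congrArg Subtype.val h))
    (Subtype.ext hx) (Subtype.ext hy) (fun h => hy1 (congrArg Subtype.val h)) (Subtype.ext hxy) (Subtype.ext c1)
    (Subtype.ext c2) (Subtype.ext d1) (Subtype.ext d2)

end Cfsg.Agent.H817.Thin
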