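import Cfsg.Agent.H817.ThinBase
import Cfsg.Agent.ETable.ExcTorus
import Cfsg.Agent.Sigma.RowsExc
import Cfsg.Agent.ChevalleyStructure.NPerm

/-!
# Thin groups: `G₂(q)` (helper817)
-/

set_option autoImplicit false

namespace Cfsg.Agent.H817.Thin.GTwo

open Cfsg Cfsg.Lie Subgroup Cfsg.Agent.ETable Cfsg.Agent.ETable.Exc
open Cfsg.Agent.ChevalleyStructure Cfsg.Agent.ChevalleyStructure.Elts
open Cfsg.Agent.ChevalleyStructure.TorusConj

universe u

/-- different root subgroups meet trivially -/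
theorem xG_eq {D : ChevalleyDatum} (hD : InList D) {F : Type u} [Field F] {r s : ℕ} (hr : r < D.nroots)
    (hs : s < D.nroots) (hrs : s ≠ r) {u v : F} (h : xG hD r u = xG hD s v) : u = 0 := by
  have h1 := congrArg (fun z : GL D.Idx F => (z : Matrix D.Idx D.Idx F)) h
  simp only [coe_xG] at h1
  have h2 := congrFun (congrFun h1 (Sum.inr ⟨r, hr⟩)) (Sum.inr ⟨D.neg r, NPerm.neg_lt hD hr⟩)
  rw [NPerm.x_entry_self hD hr, NPerm.x_entry_ne hD hr hs hrs] at h2
  exact (pow_eq_zero_iff two_ne_zero).1 (neg_eq_zero.1 h2)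

/-- **`G₂(q)`, `q` odd.** -/
theorem g2_odd (F : Type u) [Field F] [Finite F] (ho : Odd (Nat.card F)) : EWit 2 (chevG2.group F) := by
  have := Fintype.ofFinite F
  obtain ⟨p, hch⟩ := CharP.exists F
  obtain ⟨⟨n, hn⟩, hpp, hc⟩ := FiniteField.card F p
  rw [← Nat.card_eq_fintype_card] at hc
  have hc' : Nat.card F = p ^ n := hc
  have hp2 : p ≠ 2 := by
    rintro rfl
    rw [hc'] at ho
    exact (Nat.not_odd_iff_even.2 (even_two.pow_of_ne_zero hn.ne')) ho
  have hpF : (p : F) = 0 := CharP.cast_eq_zero F p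
  have h2F : (2 : F) ≠ 0 := by
    intro h
    have h1 : p ∣ 2 := by
      rw [← CharP.cast_eq_zero_iff F p 2]
      exact_mod_cast h
    exact hp2 ((Nat.prime_dvd_prime_iff_eq hpp Nat.prime_two).1 h1)
  refine ⟨p, hpp, hp2, ?_⟩
  obtain ⟨a7, a11, a6, s0, r0, l7, l11, l6⟩ := g2_cartan
  have hD := inList_G2
  have hneg : (-1 : F) ≠ 0 := neg_ne_zero.2 one_ne_zero
  set t : chevG2.group F := ⟨hG hD (chevG2.simple 0) (-1), hG_mem_group hD _ _⟩ with ht
  have hc7 : ∀ u : F, hG hD (chevG2.simple 0) (-1) * xG hD 7 u = xG hD 7 u * hG hD (chevG2.simple 0) (-1) :=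
    hG_comm_xG hD r0 l7 hneg (by rw [a7]; norm_num)
  have hc11 : ∀ u : F, hG hD (chevG2.simple 0) (-1) * xG hD 11 u = xG hD 11 u * hG hD (chevG2.simple 0) (-1) :=
    hG_comm_xG hD r0 l11 hneg (by rw [a11]; norm_num)
  have hcc : ∀ u v : F, xG hD 7 u * xG hD 11 v = xG hD 11 v * xG hD 7 u := comm_of_so hD g2_check
  have ht1 : t ≠ 1 := by
    intro h
    have h1 := congrArg (fun z : chevG2.group F =>
      ((z : GL chevG2.Idx F) : Matrix chevG2.Idx chevG2.Idx F) (Sum.inr ⟨6, l6⟩) (Sum.inr ⟨6, l6⟩)) h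
    have h2 : ((t : GL chevG2.Idx F) : Matrix chevG2.Idx chevG2.Idx F) (Sum.inr ⟨6, l6⟩) (Sum.inr ⟨6, l6⟩) =
        (-1 : F) ^ (chevG2.cartan 0 6) := hG_entry hD r0 hneg ⟨6, l6⟩
    have h3 : (((1 : chevG2.group F) : GL chevG2.Idx F) : Matrix chevG2.Idx chevG2.Idx F) (Sum.inr ⟨6, l6⟩)
        (Sum.inr ⟨6, l6⟩) = 1 := by
      rw [Subgroup.coe_one, Units.val_one, Matrix.one_apply_eq]
    have h5 : (-1 : F) ^ (chevG2.cartan 0 6) = 1 := h2.symm.trans (h1.trans h3)
    rw [a6] at h5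
    have h4 : (2 : F) = 0 := by
      have : (-1 : F) ^ (-3 : ℤ) = -1 := by norm_num
      rw [this] at h5
      linear_combination -h5
    exact h2F h4
  have htt : t ^ 2 = 1 := by
    apply Subtype.ext
    rw [Subgroup.coe_pow, Subgroup.coe_one, pow_two]
    show hG hD (chevG2.simple 0) (-1) * hG hD (chevG2.simple 0) (-1) = 1
    rw [hG_mul hD r0 hneg hneg]
    norm_num
    exact hG_one hD r0
  let φ : Multiplicative (F × F) →* chevG2.group F :=
    { toFun := fun a => ⟨xG hD 7 a.toAdd.1 * xG hD 11 a.toAdd.2, mul_mem (xG_mem_group hD _ _) (xG_mem_group hD _ _)⟩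
      map_one' := Subtype.ext (by
        show xG hD 7 (0 : F) * xG hD 11 0 = 1
        rw [xG_zero, xG_zero, one_mul])
      map_mul' := fun a b => Subtype.ext (by
        show xG hD 7 (a.toAdd.1 + b.toAdd.1) * xG hD 11 (a.toAdd.2 + b.toAdd.2) =
          xG hD 7 a.toAdd.1 * xG hD 11 a.toAdd.2 * (xG hD 7 b.toAdd.1 * xG hD 11 b.toAdd.2)
        rw [← xG_add, ← xG_add, mul_assoc, mul_assoc, ← mul_assoc (xG hD 7 b.toAdd.1), hcc b.toAdd.1, mul_assoc,
          ← mul_assoc (xG hD 11 _) (xG hD 7 _), ← hcc]) }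
  refine Wit.of_hom φ ?_ ?_ ?_ (zpowers t) (zpowers_two (by rw [← pow_two]; exact htt)) ?_ ?_
  · rw [injective_iff_map_eq_one]
    intro a ha
    have h1 : xG hD 7 a.toAdd.1 * xG hD 11 a.toAdd.2 = 1 :=
      congrArg (fun z : chevG2.group F => (z : GL chevG2.Idx F)) ha
    have h2 : xG hD 7 a.toAdd.1 = xG hD 11 (-a.toAdd.2) := by
      rw [← xG_inv]; exact eq_inv_of_mul_eq_one_left h1
    have h6 : a.toAdd.1 = 0 := xG_eq hD l7 l11 (by norm_num) h2
    have h7 : a.toAdd.2 = 0 := by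
      rw [h6, xG_zero, one_mul] at h1
      exact (xG_eq_one_iff hD l11 _).1 h1
    have h8 : a.toAdd = 0 := Prod.ext h6 h7
    exact Multiplicative.toAdd.injective h8
  · intro a
    have h1 : p • a.toAdd = 0 := by
      refine Prod.ext ?_ ?_
      · show p • a.toAdd.1 = 0
        rw [nsmul_eq_mul, hpF, zero_mul]
      · show p • a.toAdd.2 = 0
        rw [nsmul_eq_mul, hpF, zero_mul]
    exact h1
  · rw [show Nat.card (Multiplicative (F × F)) = Nat.card (F × F) from rfl, Nat.card_prod, hc', ← pow_add]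
    exact Nat.pow_le_pow_right hpp.pos (by omega)
  · rw [Ne, zpowers_eq_bot]
    exact ht1
  · intro a
    refine mem_norm_of_comm ?_
    apply Subtype.ext
    show xG hD 7 a.toAdd.1 * xG hD 11 a.toAdd.2 * hG hD (chevG2.simple 0) (-1) =
      hG hD (chevG2.simple 0) (-1) * (xG hD 7 a.toAdd.1 * xG hD 11 a.toAdd.2)
    rw [mul_assoc, ← hc11, ← mul_assoc, ← hc7, mul_assoc]

theorem g2_simple : ∀ i : Fin 2, (i : ℕ) < chevG2.rank := by decide

theorem g2_tri : ∀ i j : Fin 2, i < j → chevG2.cartan i (![7, 11] j) = 0 := by decide +kernel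

theorem g2_diag : ∀ i : Fin 2, chevG2.cartan i (![7, 11] i) = 1 ∨ chevG2.cartan i (![7, 11] i) = -1 ∨
    chevG2.cartan i (![7, 11] i) = 2 ∨ chevG2.cartan i (![7, 11] i) = -2 := by decide +kernel

theorem g2_lt : ∀ i : Fin 2, (![7, 11] i) < chevG2.nroots := by decide

/-- **`G₂(q)`, `q` even, `q > 2`.** -/
theorem g2_even (F : Type u) [Field F] [Finite F] (h2 : (2 : F) = 0) (hF : 2 < Nat.card F) :
    EWit 2 (chevG2.group F) := by
  obtain ⟨p, hp, hp2, hd⟩ := exists_prime_of_even (even_card F h2) hF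
  obtain ⟨c, hc, hc1⟩ := exists_unit_of_dvd F hp hd
  have hc0 : c ≠ 0 := by
    rintro rfl
    rw [zero_pow hp.ne_zero] at hc
    exact zero_ne_one hc
  refine ⟨p, hp, hp2, ?_⟩
  exact ETable.Exc.wit_torus inList_G2 (RingHom.id F) h2 hp hp2 hc hc1 rfl (k := 2)
    (fun i => hG inList_G2 (chevG2.simple i) c) (fun i s => chevG2.cartan i s)
    (fun i => tor_hG inList_G2 (g2_simple i) hc0) (fun i => hG_mem_group _ _ _) ![7, 11] g2_lt
    (fun i => xG_mem_group _ _ _) g2_tri g2_diag 0 (by decide) fun t _ => xG_mem_group _ _ _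

/-- **`G₂(q)`.** -/
theorem g2 (F : Type) [Field F] [Fintype F] (h3 : 3 ≤ Fintype.card F) : EWit 2 (chevG2.group F) := by
  rcases Nat.even_or_odd (Nat.card F) with h | h
  · refine g2_even F ?_ (by rw [Nat.card_eq_fintype_card]; exact h3)
    obtain ⟨p, hch⟩ := CharP.exists F
    obtain ⟨⟨n, hn⟩, hpp, hc⟩ := FiniteField.card F p
    have h2 : 2 ∣ p := by
      rw [Nat.card_eq_fintype_card, hc] at h
      exact Nat.prime_two.dvd_of_dvd_pow h.two_dvd
    have h3 : p = 2 := ((Nat.prime_dvd_prime_iff_eq Nat.prime_two hpp).1 h2).symm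
    subst h3
    exact two_eq_zero_of_charP
  · exact g2_odd F h

end Cfsg.Agent.H817.Thin.GTwo
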