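import Cfsg.Agent.H817.ThinFour
import Cfsg.Agent.SporadicA.GolayWalk
import Cfsg.Prelude.Def_Spor_Mathieu

/-!
# Thin groups: the Mathieu groups (helper817)
-/

set_option autoImplicit false
set_option maxRecDepth 100000

namespace Cfsg.Agent.H817.Thin.Mathieu

open Cfsg Cfsg.Agent.SporadicA.GolayWalk Cfsg.Agent.ETable
open scoped Pointwise

/-- The point of index `i` (the index of the extra point is 23). -/
def ptI (i : ℕ) : GolayPt := cond (Nat.beq i 23) none (some (i : ZMod 23))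

/-- The function with a given table. -/
def fn (t : List ℕ) (p : GolayPt) : GolayPt := ptI (t.getD (idx p) 0)

/-- The permutation with a given table and inverse table. -/
def mkP (t s : List ℕ) (h : ∀ p, fn s (fn t p) = p) (h' : ∀ p, fn t (fn s p) = p) : Equiv.Perm GolayPt :=
  ⟨fn t, fn s, h, h'⟩

namespace M22

/-- table -/
def t1T : List ℕ := [0, 12, 8, 6, 22, 5, 3, 7, 2, 15, 16, 11, 1, 20, 14, 9, 10, 21, 18, 19, 13, 17, 4, 23]
/-- table -/
def t1S : List ℕ := [0, 12, 8, 6, 22, 5, 3, 7, 2, 15, 16, 11, 1, 20, 14, 9, 10, 21, 18, 19, 13, 17, 4, 23]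
/-- element -/
def t1 : Equiv.Perm GolayPt := mkP t1T t1S (by decide +kernel) (by decide +kernel)
theorem t1_M24 : t1 ∈ M24 := mem_M24_of_table _ t1T rfl (by decide +kernel) (by decide +kernel)

/-- table -/
def t2T : List ℕ := [0, 3, 17, 1, 20, 5, 12, 7, 21, 16, 15, 11, 6, 22, 14, 10, 9, 2, 18, 19, 4, 8, 13, 23]
/-- table -/
def t2S : List ℕ := [0, 3, 17, 1, 20, 5, 12, 7, 21, 16, 15, 11, 6, 22, 14, 10, 9, 2, 18, 19, 4, 8, 13, 23]
/-- element -/
def t2 : Equiv.Perm GolayPt := mkP t2T t2S (by decide +kernel) (by decide +kernel)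
theorem t2_M24 : t2 ∈ M24 := mem_M24_of_table _ t2T rfl (by decide +kernel) (by decide +kernel)

/-- table -/
def xT : List ℕ := [0, 9, 3, 10, 13, 11, 15, 5, 1, 8, 2, 7, 16, 20, 14, 21, 17, 12, 18, 19, 4, 6, 22, 23]
/-- table -/
def xS : List ℕ := [0, 8, 10, 2, 20, 7, 21, 11, 9, 1, 3, 5, 17, 4, 14, 6, 12, 16, 18, 19, 13, 15, 22, 23]
/-- element -/
def x : Equiv.Perm GolayPt := mkP xT xS (by decide +kernel) (by decide +kernel)
theorem x_M24 : x ∈ M24 := mem_M24_of_table _ xT rfl (by decide +kernel) (by decide +kernel)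

/-- table -/
def yT : List ℕ := [0, 2, 16, 17, 4, 11, 21, 5, 10, 3, 12, 7, 8, 13, 19, 6, 1, 9, 14, 18, 20, 15, 22, 23]
/-- table -/
def yS : List ℕ := [0, 16, 1, 9, 4, 7, 15, 11, 12, 17, 8, 5, 10, 13, 18, 21, 2, 3, 19, 14, 20, 6, 22, 23]
/-- element -/
def y : Equiv.Perm GolayPt := mkP yT yS (by decide +kernel) (by decide +kernel)
theorem y_M24 : y ∈ M24 := mem_M24_of_table _ yT rfl (by decide +kernel) (by decide +kernel)

theorem t1_mem : t1 ∈ Spor.M22 := ⟨⟨t1_M24, (by decide +kernel : t1 none = none)⟩,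
  (by decide +kernel : t1 (some 0) = some 0)⟩
theorem t2_mem : t2 ∈ Spor.M22 := ⟨⟨t2_M24, (by decide +kernel : t2 none = none)⟩,
  (by decide +kernel : t2 (some 0) = some 0)⟩
theorem x_mem : x ∈ Spor.M22 := ⟨⟨x_M24, (by decide +kernel : x none = none)⟩,
  (by decide +kernel : x (some 0) = some 0)⟩
theorem y_mem : y ∈ Spor.M22 := ⟨⟨y_M24, (by decide +kernel : y none = none)⟩,
  (by decide +kernel : y (some 0) = some 0)⟩

theorem ewit : EWit 2 Spor.M22 :=
  ewit_of_four_sub t1_mem t2_mem x_mem y_mem (by decide +kernel) (by decide +kernel) (by decide +kernel)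
    (by decide +kernel) (by decide +kernel) (by decide +kernel) (by decide +kernel) (by decide +kernel)
    (by decide +kernel) (by decide +kernel) (by decide +kernel) (by decide +kernel) (by decide +kernel)

end M22

namespace M12

/-- table -/
def t1T : List ℕ := [8, 2, 1, 6, 16, 10, 3, 23, 0, 12, 5, 17, 9, 18, 15, 14, 4, 11, 13, 20, 19, 22, 21, 7]
/-- table -/
def t1S : List ℕ := [8, 2, 1, 6, 16, 10, 3, 23, 0, 12, 5, 17, 9, 18, 15, 14, 4, 11, 13, 20, 19, 22, 21, 7]
/-- element -/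
def t1 : Equiv.Perm GolayPt := mkP t1T t1S (by decide +kernel) (by decide +kernel)
theorem t1_M24 : t1 ∈ M24 := mem_M24_of_table _ t1T rfl (by decide +kernel) (by decide +kernel)

/-- table -/
def t2T : List ℕ := [2, 8, 0, 18, 9, 21, 13, 20, 1, 4, 22, 15, 16, 6, 17, 11, 12, 14, 3, 23, 7, 5, 10, 19]
/-- table -/
def t2S : List ℕ := [2, 8, 0, 18, 9, 21, 13, 20, 1, 4, 22, 15, 16, 6, 17, 11, 12, 14, 3, 23, 7, 5, 10, 19]
/-- element -/
def t2 : Equiv.Perm GolayPt := mkP t2T t2S (by decide +kernel) (by decide +kernel)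
theorem t2_M24 : t2 ∈ M24 := mem_M24_of_table _ t2T rfl (by decide +kernel) (by decide +kernel)

/-- table -/
def xT : List ℕ := [13, 18, 3, 9, 8, 23, 4, 11, 6, 2, 19, 22, 0, 12, 21, 5, 1, 10, 16, 17, 14, 20, 7, 15]
/-- table -/
def xS : List ℕ := [12, 16, 9, 2, 6, 15, 8, 22, 4, 3, 17, 7, 13, 0, 20, 23, 18, 19, 1, 10, 21, 14, 11, 5]
/-- element -/
def x : Equiv.Perm GolayPt := mkP xT xS (by decide +kernel) (by decide +kernel)
theorem x_M24 : x ∈ M24 := mem_M24_of_table _ xT rfl (by decide +kernel) (by decide +kernel)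

/-- table -/
def yT : List ℕ := [3, 13, 18, 16, 8, 7, 4, 17, 6, 1, 23, 10, 2, 9, 21, 22, 0, 5, 12, 15, 14, 20, 19, 11]
/-- table -/
def yS : List ℕ := [16, 9, 12, 0, 6, 17, 8, 5, 4, 13, 11, 23, 18, 1, 20, 19, 3, 7, 2, 22, 21, 14, 15, 10]
/-- element -/
def y : Equiv.Perm GolayPt := mkP yT yS (by decide +kernel) (by decide +kernel)
theorem y_M24 : y ∈ M24 := mem_M24_of_table _ yT rfl (by decide +kernel) (by decide +kernel)

theorem t1_mem : t1 ∈ Spor.M12 := Subgroup.mem_inf.2 ⟨t1_M24, MulAction.mem_stabilizer_iff.2 (by decide +kernel)⟩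
theorem t2_mem : t2 ∈ Spor.M12 := Subgroup.mem_inf.2 ⟨t2_M24, MulAction.mem_stabilizer_iff.2 (by decide +kernel)⟩
theorem x_mem : x ∈ Spor.M12 := Subgroup.mem_inf.2 ⟨x_M24, MulAction.mem_stabilizer_iff.2 (by decide +kernel)⟩
theorem y_mem : y ∈ Spor.M12 := Subgroup.mem_inf.2 ⟨y_M24, MulAction.mem_stabilizer_iff.2 (by decide +kernel)⟩

theorem ewit : EWit 2 Spor.M12 :=
  ewit_of_four_sub t1_mem t2_mem x_mem y_mem (by decide +kernel) (by decide +kernel) (by decide +kernel)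
    (by decide +kernel) (by decide +kernel) (by decide +kernel) (by decide +kernel) (by decide +kernel)
    (by decide +kernel) (by decide +kernel) (by decide +kernel) (by decide +kernel) (by decide +kernel)

end M12

theorem m23 : EWit 2 Spor.M23 :=
  EWit.of_injective (Subgroup.inclusion (inf_le_left : Spor.M22 ≤ Spor.M23)) (Subgroup.inclusion_injective _) M22.ewit

theorem m24 : EWit 2 M24 :=
  EWit.of_injective (Subgroup.inclusion (inf_le_left : Spor.M23 ≤ M24)) (Subgroup.inclusion_injective _) m23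

end Cfsg.Agent.H817.Thin.Mathieu
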