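import Cfsg.Agent.H817.ThinTorus
import Cfsg.Agent.QTKE.Rows

/-!
# Thin groups: `PSL_n(q)`, `n ≥ 3` (helper817)
-/

set_option autoImplicit false

namespace Cfsg.Agent.H817.Thin.Psl

open Cfsg Subgroup Matrix Cfsg.Agent.ETable

/-- **`q` even, `n ≥ 4`.** -/
theorem psl_blocks_two {F : Type*} [Field F] (h2 : (2 : F) = 0) (k : ℕ) :
    Wit 3 2 (ProjectiveSpecialLinearGroup (Fin (k + 4)) F) := by
  classical
  have hne : ∀ a b : ℕ, a < 4 → b < 4 → a ≠ b → (Fin.ofNat (k + 4) a) ≠ Fin.ofNat (k + 4) b := by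
    intro a b ha hb hab h
    rw [Fin.ext_iff, Fin.val_ofNat, Fin.val_ofNat, Nat.mod_eq_of_lt (by omega), Nat.mod_eq_of_lt (by omega)] at h
    exact hab h
  let c : ℕ → Fin (k + 4) := Fin.ofNat (k + 4)
  have hlt : ∀ i : Fin 2, 2 * (i : ℕ) < 4 ∧ 2 * (i : ℕ) + 1 < 4 := fun i => by omega
  have hp : ∀ i : Fin 2, c (2 * i) ≠ c (2 * i + 1) := fun i => hne _ _ (hlt i).1 (hlt i).2 (by omega)
  let u : Fin 2 → SpecialLinearGroup (Fin (k + 4)) F := fun i => tvSL (hp i) 1
  let v : Fin 2 → SpecialLinearGroup (Fin (k + 4)) F := fun i => tvSL (hp i).symm 1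
  have hst : ∀ i : Fin (k + 4), (i = c 0 ∨ i = c 1) → ¬ (i = c 2 ∨ i = c 3) := by
    rintro i (rfl | rfl) (h | h)
    · exact hne 0 2 (by omega) (by omega) (by omega) h
    · exact hne 0 3 (by omega) (by omega) (by omega) h
    · exact hne 1 2 (by omega) (by omega) (by omega) h
    · exact hne 1 3 (by omega) (by omega) (by omega) h
  let T : Subgroup (SpecialLinearGroup (Fin (k + 4)) F) :=
    radT (repSL (k + 4) F) (dgI F (fun i => i = c 0 ∨ i = c 1)) (dgI F (fun i => i = c 2 ∨ i = c 3))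
      (dgI_mul_eq_zero hst)
  let π : SpecialLinearGroup (Fin (k + 4)) F →* ProjectiveSpecialLinearGroup (Fin (k + 4)) F :=
    QuotientGroup.mk' (center _)
  have hdgI : ∀ i : Fin 2, ∀ a b : ℕ, a < 2 → b = a → ∀ x y : Fin (k + 4), True := fun _ _ _ _ _ _ _ => trivial
  have hcomm : ∀ g : SpecialLinearGroup (Fin (k + 4)) F, (∃ i : Fin 2, g = u i ∨ g = v i) →
      g ∈ normalizer (T : Set (SpecialLinearGroup (Fin (k + 4)) F)) := by
    rintro g ⟨i, hg⟩
    have key : ∀ a : ℕ, a = 0 ∨ a = 2 → ((c (2 * i) = c a ∨ c (2 * i) = c (a + 1)) ↔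
        (c (2 * i + 1) = c a ∨ c (2 * i + 1) = c (a + 1))) := by
      intro a ha
      have e : ∀ x y : ℕ, x < 4 → y < 4 → (c x = c y ↔ x = y) := fun x y hx hy =>
        ⟨fun h => by_contra fun h' => hne x y hx hy h' h, fun h => by rw [h]⟩
      rw [e _ _ (hlt i).1 (by omega), e _ _ (hlt i).1 (by omega), e _ _ (hlt i).2 (by omega),
        e _ _ (hlt i).2 (by omega)]
      omega
    rcases hg with rfl | rfl
    · exact normalizer_radT (tvSL_dgI (hp i) 1 (key 0 (Or.inl rfl))) (tvSL_dgI (hp i) 1 (key 2 (Or.inr rfl)))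
    · exact normalizer_radT (tvSL_dgI (hp i).symm 1 (key 0 (Or.inl rfl)).symm)
        (tvSL_dgI (hp i).symm 1 (key 2 (Or.inr rfl)).symm)
  have hnorm : ∀ g : SpecialLinearGroup (Fin (k + 4)) F, (∃ i : Fin 2, g = u i ∨ g = v i) →
      π g ∈ normalizer ((T.map π : Subgroup (ProjectiveSpecialLinearGroup (Fin (k + 4)) F)) :
        Set (ProjectiveSpecialLinearGroup (Fin (k + 4)) F)) := by
    intro g hg
    exact Subgroup.le_normalizer_map π ⟨g, hcomm g hg, rfl⟩
  have hne' : ∀ i j : Fin 2, i ≠ j → ∀ x y : ℕ, x < 2 → y < 2 → c (2 * i + x) ≠ c (2 * j + y) := by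
    intro i j hij x y hx hy
    have h1 : (i : ℕ) ≠ j := fun h => hij (Fin.ext h)
    exact hne _ _ (by omega) (by omega) (by omega)
  refine Wit.of_pairs (fun i => π (u i)) (fun i => π (v i)) ?_ ?_ ?_ ?_ ?_ ?_ ?_ (T.map π)
    ((isPGroup_radT (repSL_injective _ _) (two_eq_zero_matrix h2)).map π) ?_ ?_ ?_
  · intro i
    rw [← map_mul, tvSL_mul_self _ h2, map_one]
  · intro i
    rw [← map_mul, tvSL_mul_self _ h2, map_one]
  · intro i
    rw [← map_mul, ← map_mul, ← map_mul, ← map_mul]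
    exact congrArg π (tvSL_braid (hp i) h2)
  · intro i h
    rw [← map_mul, QuotientGroup.mk'_apply, QuotientGroup.eq_one_iff] at h
    exact tvSL_pair_not_center (hp i) h
  · intro i j h
    refine Commute.map (tvSL_commute (hp i) (hp j) ?_ ?_ 1 1) π
    · exact hne' i j h 1 0 (by omega) (by omega)
    · exact hne' j i h.symm 1 0 (by omega) (by omega)
  · intro i j h
    refine Commute.map (tvSL_commute (hp i) (hp j).symm ?_ ?_ 1 1) π
    · exact hne' i j h 1 1 (by omega) (by omega)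
    · exact hne' j i h.symm 0 0 (by omega) (by omega)
  · intro i j h
    refine Commute.map (tvSL_commute (hp i).symm (hp j).symm ?_ ?_ 1 1) π
    · exact hne' i j h 0 1 (by omega) (by omega)
    · exact hne' j i h.symm 0 1 (by omega) (by omega)
  · intro h0
    rw [Subgroup.map_eq_bot_iff, QuotientGroup.ker_mk'] at h0
    have h02 : c 0 ≠ c 2 := hne 0 2 (by omega) (by omega) (by omega)
    exact tvSL_not_center h02 one_ne_zero
      (h0 (tvSL_mem_radT h02 (1 : F) hst (Or.inl rfl) (Or.inl rfl)))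
  · intro i
    exact hnorm _ ⟨i, Or.inl rfl⟩
  · intro i
    exact hnorm _ ⟨i, Or.inr rfl⟩

/-- **`q` odd, `n = 4`.** -/
theorem psl_four_odd_two {F : Type*} [Field F] [Finite F] {p : ℕ} [CharP F p] (hp2 : p ≠ 2) :
    Wit p 2 (ProjectiveSpecialLinearGroup (Fin 4) F) := by
  have hp : p.Prime := CharP.char_is_prime F p
  have h2 : (2 : F) ≠ 0 := by
    intro h
    have h1 : (p : ℕ) ∣ 2 := (CharP.cast_eq_zero_iff F p 2).1 (by exact_mod_cast h)
    exact hp2 ((Nat.prime_dvd_prime_iff_eq hp Nat.prime_two).1 h1)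
  refine psl_of_diag (r := 2) (s := 2) (a := ![0, 2]) (b := ![1, 3])
    (d := ![-1, -1, 1, 1]) ?_ ?_ ?_ ?_ ?_ (i₀ := 0) (j₀ := 2) ?_ ?_
  · intro i j
    fin_cases i <;> fin_cases j <;> decide
  · intro i j hij
    fin_cases i <;> fin_cases j <;> first | rfl | (exfalso; revert hij; decide)
  · simp [Fin.prod_univ_four]
  · intro i
    fin_cases i <;> simp
  · intro i
    fin_cases i <;> rfl
  · show (-1 : F) ≠ 1
    intro h
    exact h2 (by linear_combination -h)
  · exact Nat.pow_le_pow_left (le_card_of_charP F p) 2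

/-- **`q` odd, not prime, `n = 3`.** -/
theorem psl_three_odd {F : Type*} [Field F] [Finite F] {p : ℕ} [CharP F p] (hp2 : p ≠ 2) (hq : Nat.card F ≠ p) :
    Wit p 2 (ProjectiveSpecialLinearGroup (Fin 3) F) := by
  have hp : p.Prime := CharP.char_is_prime F p
  have h2 : (2 : F) ≠ 0 := by
    intro h
    have h1 : (p : ℕ) ∣ 2 := (CharP.cast_eq_zero_iff F p 2).1 (by exact_mod_cast h)
    exact hp2 ((Nat.prime_dvd_prime_iff_eq hp Nat.prime_two).1 h1)
  refine psl_of_diag (r := 1) (s := 2) (a := ![1]) (b := ![2])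
    (d := ![1, -1, -1]) ?_ ?_ ?_ ?_ ?_ (i₀ := 0) (j₀ := 1) ?_ ?_
  · intro i j
    fin_cases i; fin_cases j; decide
  · intro i j hij
    fin_cases i; fin_cases j; rfl
  · simp [Fin.prod_univ_three]
  · intro i
    fin_cases i <;> simp
  · intro i
    fin_cases i; rfl
  · show (1 : F) ≠ -1
    intro h
    exact h2 (by linear_combination h)
  · rw [pow_one]
    exact sq_le_card_of_charP F p hq

/-- **`PSL_n(q)`, `n ≥ 4`.** -/
theorem psl4 (F : Type) [Field F] [Fintype F] (n : ℕ) (hn : 4 ≤ n) : EWit 2 (ProjectiveSpecialLinearGroup (Fin n) F) := by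
  obtain ⟨p, hpF⟩ := CharP.exists F
  have hp : p.Prime := CharP.char_is_prime F p
  by_cases hp2 : p = 2
  · subst hp2
    obtain ⟨k, rfl⟩ : ∃ k, n = k + 4 := ⟨n - 4, by omega⟩
    exact ⟨3, Nat.prime_three, by norm_num, psl_blocks_two two_eq_zero_of_charP k⟩
  · by_cases h4 : n = 4
    · subst h4
      exact ⟨p, hp, hp2, psl_four_odd_two hp2⟩
    · exact EWit.mono (by norm_num) (psl_odd_row hp2 (Or.inr (by omega)))

/-! ### `PSL₃` -/

/-- the frame -/
theorem frame (F : Type*) [Field F] : Frame (⊤ : Subgroup Fˣ) (repSL 3 F)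
    (QuotientGroup.mk' (center (SpecialLinearGroup (Fin 3) F))) where
  ker g := by
    rw [QuotientGroup.mk'_apply, QuotientGroup.eq_one_iff, Matrix.SpecialLinearGroup.mem_center_iff, repSL_apply]
    constructor
    · rintro ⟨r, -, h⟩
      refine ⟨r, ?_⟩
      rw [← h, smul_one_eq_diagonal]
      rfl
    · rintro ⟨c, h⟩
      refine ⟨c, ?_, ?_⟩
      · have h1 := g.det_coe
        rw [h, Matrix.det_smul, Matrix.det_one, mul_one] at h1
        exact h1
      · rw [h, smul_one_eq_diagonal]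
        rfl
  dg a _ b _ := by
    refine ⟨⟨Matrix.diagonal ![(a : F), (b : F), (((a * b)⁻¹ : Fˣ) : F)], ?_⟩, rfl⟩
    rw [det_diagonal, Fin.prod_univ_three]
    show (a : F) * b * (((a * b)⁻¹ : Fˣ) : F) = 1
    rw [← Units.val_mul, ← Units.val_mul, mul_inv_cancel, Units.val_one]

/-- **`PSL₃(q)`, `q ≥ 8` even.** -/
theorem psl3_even (F : Type) [Field F] [Fintype F] [CharP F 2] (h2 : Fintype.card F ≠ 2) (h4 : Fintype.card F ≠ 4) :
    EWit 2 (ProjectiveSpecialLinearGroup (Fin 3) F) := by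
  classical
  obtain ⟨k, hk, hF⟩ := exists_card_eq F 2
  rw [Nat.card_eq_fintype_card] at hF
  have hk3 : 3 ≤ k := by
    by_contra hcon
    have : k = 1 ∨ k = 2 := by omega
    rcases this with rfl | rfl
    · exact h2 (by rw [hF]; norm_num)
    · exact h4 (by rw [hF]; norm_num)
  obtain ⟨r, hr, h5, hd⟩ := exists_prime_ge_five hk3
  have : Fact r.Prime := ⟨hr⟩
  obtain ⟨c, hc⟩ := exists_prime_orderOf_dvd_card' (G := Fˣ) r (by
    rw [Nat.card_units, Nat.card_eq_fintype_card, hF]; exact hd)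
  have h01 : (0 : Fin 3) ≠ 1 := by decide
  have hst : ∀ i : Fin 3, i = 0 → ¬ i = 1 := by rintro i rfl; exact h01
  have hchar : (2 : F) = 0 := two_eq_zero_of_charP
  refine (frame F).ewit_of_prime hr h5 (mem_top c) hc
    ((radT (repSL 3 F) (dgI F (· = 0)) (dgI F (· = 1)) (dgI_mul_eq_zero hst)).map
      (QuotientGroup.mk' (center (SpecialLinearGroup (Fin 3) F))))
    ((isPGroup_radT (repSL_injective _ _) (two_eq_zero_matrix hchar)).map _) ?_ ?_
  · intro h0
    rw [Subgroup.map_eq_bot_iff, QuotientGroup.ker_mk'] at h0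
    exact tvSL_not_center h01 one_ne_zero (h0 (tvSL_mem_radT h01 (1 : F) hst rfl rfl))
  · rintro g ⟨a, b, hg⟩
    refine Subgroup.le_normalizer_map _ ⟨g, ?_, rfl⟩
    refine normalizer_radT ?_ ?_
    · rw [hg]; exact diagonal_mul_dgI _
    · rw [hg]; exact diagonal_mul_dgI _

/-- **`PSL₃(q)`.** -/
theorem psl3 (F : Type) [Field F] [Fintype F] (h2 : Fintype.card F ≠ 2) (h4 : Fintype.card F ≠ 4) :
    EWit 2 (ProjectiveSpecialLinearGroup (Fin 3) F) ∨ (Odd (Fintype.card F) ∧ (Fintype.card F).Prime ∧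
      ∃ a b : ℕ, Fintype.card F = 2 ^ a * 3 ^ b + 1 ∧ b ≤ 1) := by
  obtain ⟨p, hpF⟩ := CharP.exists F
  have hp : p.Prime := CharP.char_is_prime F p
  by_cases hp2 : p = 2
  · subst hp2
    exact Or.inl (psl3_even F h2 h4)
  have h20 : (2 : F) ≠ 0 := by
    intro h
    have h1 : (p : ℕ) ∣ 2 := (CharP.cast_eq_zero_iff F p 2).1 (by exact_mod_cast h)
    exact hp2 ((Nat.prime_dvd_prime_iff_eq hp Nat.prime_two).1 h1)
  by_cases hq : Nat.card F = p
  · rcases (frame F).dichotomy h20 (mem_top _) with h | ⟨a, b, hab, hb⟩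
    · exact Or.inl h
    · right
      rw [Nat.card_eq_fintype_card] at hq
      rw [hq]
      refine ⟨hp.odd_of_ne_two hp2, hp, a, b, ?_, hb⟩
      rw [← hab, Subgroup.card_top, Nat.card_units, Nat.card_eq_fintype_card, hq]
      have := hp.one_lt
      omega
  · exact Or.inl ⟨p, hp, hp2, psl_three_odd hp2 hq⟩

end Cfsg.Agent.H817.Thin.Psl
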