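import Cfsg.Agent.H817.ThinBase
import Cfsg.Agent.QTKE.Rows
import Cfsg.Agent.LieClassical.FieldTransfer

/-!
# Thin groups: the rows and the assembly (helper817)

* `TRows` : the rows for thin groups which are not yet in the table of `QTKE`;
* `list` : a thin known simple group is on the list of S2028.
-/

set_option autoImplicit false

namespace Cfsg.Agent.H817.Thin

open Cfsg Subgroup Cfsg.Agent.ETable
open Cfsg.Agent.QTKE (PSL Row Wide Rows)

/-- **The rows for thin groups.** -/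
structure TRows : Prop where
  alt5 : ∃ (F : Type) (_ : Field F) (_ : Fintype F), Nonempty (alternatingGroup (Fin 5) ≃* PSL 2 F)
  alt : ∀ n : ℕ, 7 ≤ n → Row (alternatingGroup (Fin n)) (EWit 2 (alternatingGroup (Fin n)))
  psl3two : ∀ (F : Type) [Field F] [Fintype F], Fintype.card F = 2 →
    ∃ (K : Type) (_ : Field K) (_ : Fintype K), Nonempty (PSL 3 F ≃* PSL 2 K)
  psl3 : ∀ (F : Type) [Field F] [Fintype F], Fintype.card F ≠ 2 → Fintype.card F ≠ 4 →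
    Row (PSL 3 F) (EWit 2 (PSL 3 F) ∨ (Odd (Fintype.card F) ∧ (Fintype.card F).Prime ∧
      ∃ a b : ℕ, Fintype.card F = 2 ^ a * 3 ^ b + 1 ∧ b ≤ 1))
  psl4 : ∀ (F : Type) [Field F] [Fintype F] (n : ℕ), 4 ≤ n → Row (PSL n F) (EWit 2 (PSL n F))
  psp : ∀ (F : Type) [Field F] [Fintype F] (m : ℕ), 2 ≤ m → (m = 2 → 3 ≤ Fintype.card F) →
    Row (PSp m F) (EWit 2 (PSp m F))
  psu3 : ∀ (F : Type) [Field F] [Fintype F] (q : ℕ), Fintype.card F = q ^ 2 → Odd q →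
    Row (PSU 3 F q) (EWit 2 (PSU 3 F q) ∨ (q.Prime ∧ ∃ a b : ℕ, q + 1 = 2 ^ a * 3 ^ b ∧ b ≤ 1))
  psu4 : ∀ (F : Type) [Field F] [Fintype F] (n q : ℕ), Fintype.card F = q ^ 2 → 4 ≤ n →
    Row (PSU n F q) (EWit 2 (PSU n F q))
  g2 : ∀ (F : Type) [Field F] [Fintype F], 3 ≤ Fintype.card F → Row (Lie.chevG2.group F) (EWit 2 (Lie.chevG2.group F))
  twistedD4 : ∀ (K : Type) [Field K] [Fintype K] (k : ℕ), 2 ≤ k → Fintype.card K = (2 ^ k) ^ 3 →
    Row (Lie.twistedD4 K (2 ^ k)) (EWit 2 (Lie.twistedD4 K (2 ^ k)))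
  twistedD4two : ∀ (K : Type) [Field K] [Fintype K], Fintype.card K = 8 →
    Nat.card (Lie.twistedD4 K 2) = 211341312
  twistedF4 : ∀ (K : Type) [Field K] [Fintype K] (m : ℕ), 1 ≤ m → Fintype.card K = 2 ^ (2 * m + 1) →
    Row (Lie.twistedF4 K (2 ^ m)) (EWit 2 (Lie.twistedF4 K (2 ^ m)))
  tits : Nat.card Lie.TitsGroup = 17971200
  m12 : Row Spor.M12 (EWit 2 Spor.M12)
  m22 : Row Spor.M22 (EWit 2 Spor.M22)
  m23 : Row Spor.M23 (EWit 2 Spor.M23)
  m24 : Row M24 (EWit 2 M24)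
  j2 : Row Spor.J2 (EWit 2 Spor.J2)
  j3 : ∀ (F : Type) [Field F] [Fintype F] (ω : F), Fintype.card F = 4 → ω ^ 2 + ω + 1 = 0 →
    Row (Spor.J3 F ω) (EWit 2 (Spor.J3 F ω))
  j4 : Row Spor.J4 (EWit 2 Spor.J4)
  hs : Row Spor.HS (EWit 2 Spor.HS)
  he : Row Spor.He (EWit 2 Spor.He)
  ru : Row Spor.Ru (EWit 2 Spor.Ru)
  mcl : Row Spor.McL (EWit 2 Spor.McL)
  on : Row Spor.ON (EWit 2 Spor.ON)

/-- the list of S2028 -/
def OnList (G : Type*) [Group G] : Prop :=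
  (∃ (F : Type) (_ : Field F) (_ : Fintype F), Nonempty (G ≃* Matrix.ProjectiveSpecialLinearGroup (Fin 2) F)) ∨
  (∃ (p a b : ℕ), p.Prime ∧ Odd p ∧ p = 2 ^ a * 3 ^ b + 1 ∧ b ≤ 1 ∧
    Nonempty (G ≃* Matrix.ProjectiveSpecialLinearGroup (Fin 3) (ZMod p))) ∨
  (∃ (p a b : ℕ), p.Prime ∧ Odd p ∧ p + 1 = 2 ^ a * 3 ^ b ∧ b ≤ 1 ∧ ∃ (F : Type) (_ : Field F) (_ : Fintype F),
    Fintype.card F = p ^ 2 ∧ Nonempty (G ≃* Cfsg.PSU 3 F p)) ∨
  Cfsg.Lie.IsoSuzuki G ∨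
  (∃ (F : Type) (_ : Field F) (_ : Fintype F) (n : ℕ), Fintype.card F = 4 ^ n ∧ Nonempty (G ≃* Cfsg.PSU 3 F (2 ^ n))) ∨
  (∃ (F : Type) (_ : Field F) (_ : Fintype F), Fintype.card F = 4 ∧
    Nonempty (G ≃* Matrix.ProjectiveSpecialLinearGroup (Fin 3) F)) ∨
  Cfsg.IsTits G ∨ (Cfsg.Is3D4 G ∧ Nat.card G = 211341312) ∨ Cfsg.Spor.IsoM11 G ∨ Cfsg.Spor.IsoJ1 G

universe u

variable {G : Type u} [Group G] [Finite G] [IsSimpleGroup G]

theorem kill {X : Type} [Group X] (hG : ¬ IsMulCommutative G) (ht : Thin G) (h : Row X (EWit 2 X)) (e : G ≃* X) :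
    False :=
  ht.not_ewit (EWit.congr e.symm (h.apply hG e))

theorem killW {X : Type} [Group X] (hG : ¬ IsMulCommutative G) (ht : Thin G) (h : Row X (Wide X)) (e : G ≃* X) :
    False :=
  ht.not_wide (Wide.congr e (h.apply hG e))

variable (R : Rows) (T : TRows) (hG : ¬ IsMulCommutative G) (ht : Thin G)

include R T hG ht

theorem list_alt (h : IsAlternating G) : OnList G := by
  obtain ⟨n, hn, ⟨e⟩⟩ := h
  obtain rfl | rfl | h7 : n = 5 ∨ n = 6 ∨ 7 ≤ n := by omega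
  · obtain ⟨F, i1, i2, ⟨f⟩⟩ := T.alt5
    exact Or.inl ⟨F, i1, i2, ⟨e.trans f⟩⟩
  · obtain ⟨F, ⟨i1, i2, hF⟩⟩ : ∃ (F : Type) (_ : Field F) (_ : Fintype F), Fintype.card F = 9 := by
      have : Fact (Nat.Prime 3) := ⟨Nat.prime_three⟩
      have h2 : Fintype (GaloisField 3 2) := Fintype.ofFinite _
      refine ⟨GaloisField 3 2, inferInstance, h2, ?_⟩
      rw [← Nat.card_eq_fintype_card, GaloisField.card 3 2 two_ne_zero]
      norm_num
    obtain ⟨f⟩ := R.psl29 F hF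
    exact Or.inl ⟨F, i1, i2, ⟨e.trans f.symm⟩⟩
  · exact (kill hG ht (T.alt n h7) e).elim

theorem list_psl (h : IsPSL G) : OnList G := by
  obtain ⟨F, i1, i2, n, hn, hn2, ⟨e⟩⟩ := h
  obtain rfl | rfl | h4 : n = 2 ∨ n = 3 ∨ 4 ≤ n := by omega
  · exact Or.inl ⟨F, i1, i2, ⟨e⟩⟩
  · by_cases hF2 : Fintype.card F = 2
    · obtain ⟨K, j1, j2, ⟨f⟩⟩ := T.psl3two F hF2
      exact Or.inl ⟨K, j1, j2, ⟨e.trans f⟩⟩
    by_cases hF4 : Fintype.card F = 4
    · exact Or.inr (Or.inr (Or.inr (Or.inr (Or.inr (Or.inl ⟨F, i1, i2, hF4, ⟨e⟩⟩)))))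
    rcases (T.psl3 F hF2 hF4).apply hG e with h | ⟨ho, hp, a, b, hab, hb⟩
    · exact (ht.not_ewit (EWit.congr e.symm h)).elim
    · refine Or.inr (Or.inl ⟨Fintype.card F, a, b, hp, ho, hab, hb, ?_⟩)
      have : Fact (Fintype.card F).Prime := ⟨hp⟩
      have hch : CharP F (Fintype.card F) := by
        obtain ⟨p, hpF⟩ := CharP.exists F
        obtain ⟨⟨m, hm⟩, hpp, hc⟩ := FiniteField.card F p
        have h1 : p = Fintype.card F := by
          have h2 : p ∣ Fintype.card F := by rw [hc]; exact dvd_pow_self p hm.ne'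
          exact (Nat.prime_dvd_prime_iff_eq hpp hp).1 h2
        rw [← h1]; exact hpF
      exact ⟨e.trans (LieClassical.FieldTransfer.pslCongr (ZMod.ringEquivOfPrime F hp rfl).symm)⟩
  · exact (kill hG ht (T.psl4 F n h4) e).elim

theorem list_psp (h : IsPSp G) : OnList G := by
  obtain ⟨F, i1, i2, m, hm, hm2, ⟨e⟩⟩ := h
  exact (kill hG ht (T.psp F m hm hm2) e).elim

theorem list_psu (h : IsPSU G) : OnList G := by
  obtain ⟨F, i1, i2, n, q, hF, hn, hnq, ⟨e⟩⟩ := h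
  obtain rfl | h4 : n = 3 ∨ 4 ≤ n := by omega
  · rcases Nat.even_or_odd q with hq | hq
    · obtain ⟨k, hk, rfl⟩ := QTKE.pow_of_even F two_ne_zero hq hF
      exact Or.inr (Or.inr (Or.inr (Or.inr (Or.inl ⟨F, i1, i2, k, by rw [hF, ← pow_mul, mul_comm, pow_mul]; norm_num,
        ⟨e⟩⟩))))
    · rcases (T.psu3 F q hF hq).apply hG e with h | ⟨hp, a, b, hab, hb⟩
      · exact (ht.not_ewit (EWit.congr e.symm h)).elim
      · exact Or.inr (Or.inr (Or.inl ⟨q, a, b, hp, hq, hab, hb, F, i1, i2, hF, ⟨e⟩⟩))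
  · exact (kill hG ht (T.psu4 F n q hF h4) e).elim

theorem list_exc (h : IsExceptionalLieType G) : OnList G := by
  rcases h with h | h | h | h | h | h | h | h | h | h | h
  · obtain ⟨F, i1, i2, hF3, ⟨e⟩⟩ := h
    exact (kill hG ht (T.g2 F hF3) e).elim
  · obtain ⟨F, i1, i2, ⟨e⟩⟩ := h
    exact (killW hG ht (R.f4 F) e).elim
  · obtain ⟨F, i1, i2, ⟨e⟩⟩ := h
    exact (killW hG ht (R.e6 F) e).elim
  · obtain ⟨F, i1, i2, ⟨e⟩⟩ := h
    exact (killW hG ht (R.e7 F) e).elim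
  · obtain ⟨F, i1, i2, ⟨e⟩⟩ := h
    exact (killW hG ht (R.e8 F) e).elim
  · obtain ⟨K, i1, i2, q, hq, hK, ⟨e⟩⟩ := h
    exact (killW hG ht (R.twistedE6 K q hq hK) e).elim
  · obtain ⟨K, i1, i2, q, hq, hK, ⟨e⟩⟩ := h
    rcases Nat.even_or_odd q with hq2 | hq2
    · obtain ⟨k, hk, rfl⟩ := QTKE.pow_of_even K three_ne_zero hq2 hK
      obtain rfl | hk2 : k = 1 ∨ 2 ≤ k := by omega
      · have hc : Nat.card G = 211341312 := by
          rw [Nat.card_congr e.toEquiv]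
          exact T.twistedD4two K (by rw [hK]; norm_num)
        refine Or.inr (Or.inr (Or.inr (Or.inr (Or.inr (Or.inr (Or.inr (Or.inl ⟨⟨inferInstance, 2, ?_, ?_⟩, hc⟩)))))))
        · exact Nat.prime_two.isPrimePow
        · rw [hc]; norm_num
      · exact (kill hG ht (T.twistedD4 K k hk2 hK) e).elim
    · exact (killW hG ht (R.twistedD4odd K q hq hq2 hK) e).elim
  · exact Or.inr (Or.inr (Or.inr (Or.inl h)))
  · obtain ⟨K, i1, i2, m, hm, hK, ⟨e⟩⟩ := h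
    exact (killW hG ht (R.ree K m hm hK) e).elim
  · obtain ⟨K, i1, i2, m, hm, hK, ⟨e⟩⟩ := h
    exact (kill hG ht (T.twistedF4 K m hm hK) e).elim
  · obtain ⟨e⟩ := h
    exact Or.inr (Or.inr (Or.inr (Or.inr (Or.inr (Or.inr (Or.inl ⟨inferInstance, by
      rw [Nat.card_congr e.toEquiv]; exact T.tits⟩))))))

theorem list_spor (h : IsSporadicGroup G) : OnList G := by
  rcases h with h | h | h | h | h | h | h | h | h | h | h | h | h | h | h | h | h | h | h | h | h | h | h | h | h | h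
  · exact Or.inr (Or.inr (Or.inr (Or.inr (Or.inr (Or.inr (Or.inr (Or.inr (Or.inl h))))))))
  · obtain ⟨e⟩ := h; exact (kill hG ht T.m12 e).elim
  · obtain ⟨e⟩ := h; exact (kill hG ht T.m22 e).elim
  · obtain ⟨e⟩ := h; exact (kill hG ht T.m23 e).elim
  · obtain ⟨e⟩ := h; exact (kill hG ht T.m24 e).elim
  · exact Or.inr (Or.inr (Or.inr (Or.inr (Or.inr (Or.inr (Or.inr (Or.inr (Or.inr h))))))))
  · obtain ⟨e⟩ := h; exact (kill hG ht T.j2 e).elim
  · obtain ⟨F, i1, i2, ω, hF, hω, ⟨e⟩⟩ := h; exact (kill hG ht (T.j3 F ω hF hω) e).elim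
  · obtain ⟨e⟩ := h; exact (kill hG ht T.j4 e).elim
  · obtain ⟨e⟩ := h; exact (killW hG ht R.co1 e).elim
  · obtain ⟨e⟩ := h; exact (killW hG ht R.co2 e).elim
  · obtain ⟨e⟩ := h; exact (killW hG ht R.co3 e).elim
  · obtain ⟨e⟩ := h; exact (kill hG ht T.mcl e).elim
  · obtain ⟨e⟩ := h; exact (kill hG ht T.hs e).elim
  · obtain ⟨e⟩ := h; exact (killW hG ht R.suz e).elim
  · obtain ⟨e⟩ := h; exact (kill hG ht T.he e).elim
  · obtain ⟨e⟩ := h; exact (kill hG ht T.ru e).elim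
  · obtain ⟨e⟩ := h; exact (kill hG ht T.on e).elim
  · obtain ⟨e⟩ := h; exact (killW hG ht R.ly e).elim
  · obtain ⟨e⟩ := h; exact (killW hG ht R.fi22 e).elim
  · obtain ⟨e⟩ := h; exact (killW hG ht R.fi23 e).elim
  · obtain ⟨e⟩ := h; exact (killW hG ht R.fi24 e).elim
  · obtain ⟨e⟩ := h; exact (killW hG ht R.hn e).elim
  · obtain ⟨e⟩ := h; exact (killW hG ht R.th e).elim
  · obtain ⟨e⟩ := h; exact (killW hG ht R.b e).elim
  · obtain ⟨e⟩ := h; exact (killW hG ht R.m e).elim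

/-- **S2028 from the rows.** -/
theorem list (h : IsKnownSimple' G) : OnList G := by
  rcases h with h | h | h | h | h | h | h | h | h | h
  · exfalso
    apply hG
    have hp : Fact (Nat.card G).Prime := ⟨h⟩
    have : IsCyclic G := isCyclic_of_prime_card (p := Nat.card G) rfl
    exact IsCyclic.isMulCommutative
  · exact list_alt R T hG ht h
  · exact list_psl R T hG ht h
  · exact list_psp R T hG ht h
  · exact list_psu R T hG ht h
  · obtain ⟨F, i1, i2, m, hm, hF, ⟨e⟩⟩ := h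
    exact (killW hG ht (R.omegaOdd F m hF hm) e).elim
  · obtain ⟨F, i1, i2, m, hm, ⟨e⟩⟩ := h
    exact (killW hG ht (R.omegaPlus F m hm) e).elim
  · obtain ⟨F, i1, i2, m, a, b, hm, hab, ⟨e⟩⟩ := h
    exact (killW hG ht (R.omegaMinus F m a b hm hab) e).elim
  · exact list_exc R T hG ht h
  · exact list_spor R T hG ht h

end Cfsg.Agent.H817.Thin
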