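import Cfsg.Agent.H817.ThinFour
import Cfsg.Agent.SporadicB.RuTits
import Cfsg.Agent.RuLat.Main

/-!
# Thin groups: the row `Ru` (helper817)

`Ru` contains `3 × A₄`; the witness is given by words in the six generators of the automorphism group of the rank 3
graph, the relations are checked on the four base points.
-/

set_option autoImplicit false
set_option maxRecDepth 100000
set_option exponentiation.threshold 5000

namespace Cfsg.Agent.H817.Thin.Ru

open Cfsg Cfsg.Agent.ETable
open Cfsg.Agent.SporadicB.RuData Cfsg.Agent.SporadicB.RuOrder Cfsg.Agent.SporadicB.RuTits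
open Cfsg.Agent.Lib.BitNet Cfsg.Agent.Lib.BitNetSimple

/-- the generators and their inverses -/
def gen : ℕ → List (ℕ × ℕ)
  | 0 => net0
  | 1 => net1
  | 2 => net2
  | 3 => net3
  | 4 => net4
  | 5 => net5
  | 6 => net0.reverse
  | 7 => net1.reverse
  | 8 => net2.reverse
  | 9 => net3.reverse
  | 10 => net4.reverse
  | 11 => net5.reverse
  | _ => []

theorem mem_nil : Mem H [] := by
  have h : OkNet 4060 [] := ⟨fun p hp => absurd hp List.not_mem_nil, fun i => Iff.rfl⟩
  refine ⟨h, ?_⟩
  have e : perm h = 1 := Equiv.ext fun i => Fin.ext rfl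
  rw [e]
  exact one_mem _

theorem mem_gen (k : ℕ) : Mem H (gen k) := by
  rcases k with _ | _ | _ | _ | _ | _ | _ | _ | _ | _ | _ | _ | k
  · exact mem0
  · exact mem1
  · exact mem2
  · exact mem3
  · exact mem4
  · exact mem5
  · exact Mem.reverse mem0
  · exact Mem.reverse mem1
  · exact Mem.reverse mem2
  · exact Mem.reverse mem3
  · exact Mem.reverse mem4
  · exact Mem.reverse mem5
  · exact mem_nil

/-- the network of a word -/
def ev : List ℕ → List (ℕ × ℕ)
  | [] => []
  | k :: w => gen k ++ ev w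

theorem mem_ev : ∀ w : List ℕ, Mem H (ev w)
  | [] => mem_nil
  | k :: w => Mem.append (mem_gen k) (mem_ev w)

/-- the element of a word -/
noncomputable def P (w : List ℕ) : Equiv.Perm (Fin 4060) := perm (mem_ev w).1

theorem P_mem (w : List ℕ) : P w ∈ H := (mem_ev w).2

/-- the image of a point -/
noncomputable def im (w : List ℕ) (i : ℕ) : ℕ := appF (ev w) i

theorem P_apply (w : List ℕ) (i : Fin 4060) : ((P w i : Fin 4060) : ℕ) = im w i := by
  rw [im, appF_eq]
  rfl

theorem eq_of_fix {g h : Equiv.Perm (Fin 4060)} (hg : g ∈ H) (hh : h ∈ H) (e1 : g b1 = h b1) (e2 : g b2 = h b2)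
    (e3 : g b3 = h b3) (e4 : g b4 = h b4) : g = h := by
  have h1 : h⁻¹ * g = 1 := by
    refine eq_one_of_fix (mul_mem (inv_mem hh) hg) ?_ ?_ ?_ ?_
    · rw [Equiv.Perm.mul_apply, e1]; exact h.symm_apply_apply _
    · rw [Equiv.Perm.mul_apply, e2]; exact h.symm_apply_apply _
    · rw [Equiv.Perm.mul_apply, e3]; exact h.symm_apply_apply _
    · rw [Equiv.Perm.mul_apply, e4]; exact h.symm_apply_apply _
  exact (inv_mul_eq_one.1 h1).symm

/-- the images of the base points under the product of the elements of the words of a list -/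
noncomputable def ims : List (List ℕ) → ℕ → ℕ
  | [], i => i
  | w :: l, i => im w (ims l i)

/-- product of the elements of the words -/
noncomputable def PP : List (List ℕ) → Equiv.Perm (Fin 4060)
  | [] => 1
  | w :: l => P w * PP l

theorem PP_mem : ∀ l : List (List ℕ), PP l ∈ H
  | [] => one_mem _
  | w :: l => mul_mem (P_mem w) (PP_mem l)

theorem PP_apply : ∀ (l : List (List ℕ)) (i : Fin 4060), ((PP l i : Fin 4060) : ℕ) = ims l i
  | [], _ => rfl
  | w :: l, i => by
    show ((P w (PP l i) : Fin 4060) : ℕ) = im w (ims l i)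
    rw [P_apply, PP_apply l i]

/-- kernel check of a relation -/
noncomputable def chk (l l' : List (List ℕ)) : Bool :=
  Nat.beq (ims l 0) (ims l' 0) && (Nat.beq (ims l 29) (ims l' 29) && (Nat.beq (ims l 580) (ims l' 580) &&
    Nat.beq (ims l 577) (ims l' 577)))

theorem rel {l l' : List (List ℕ)} (h : chk l l' = true) : PP l = PP l' := by
  rw [chk, Bool.and_eq_true, Bool.and_eq_true, Bool.and_eq_true] at h
  refine eq_of_fix (PP_mem l) (PP_mem l') ?_ ?_ ?_ ?_
  · exact Fin.ext (by rw [PP_apply, PP_apply]; exact Nat.eq_of_beq_eq_true h.1)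
  · exact Fin.ext (by rw [PP_apply, PP_apply]; exact Nat.eq_of_beq_eq_true h.2.1)
  · exact Fin.ext (by rw [PP_apply, PP_apply]; exact Nat.eq_of_beq_eq_true h.2.2.1)
  · exact Fin.ext (by rw [PP_apply, PP_apply]; exact Nat.eq_of_beq_eq_true h.2.2.2)

def wt1 : List ℕ := [2, 7, 9, 0, 0, 9, 0, 4, 0, 3, 1, 5, 0, 1, 4, 11, 0]
def wx : List ℕ := [6, 7, 3, 3, 0, 3, 2, 10, 10, 6, 11, 3, 1, 11, 11]
def wy : List ℕ := [7, 2, 3, 0, 0, 3, 3, 7, 4, 0, 3, 2, 11, 2, 3, 2]
def wt2 : List ℕ := [0, 1, 3, 0, 3, 6, 9, 10, 0, 4, 0, 1, 11, 9, 6, 5, 9]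

theorem ewitH : EWit 2 H := by
  refine ewit_of_four_sub (t1 := PP [wt1]) (t2 := PP [wt2]) (x := PP [wy]) (y := PP [wx]) (PP_mem _) (PP_mem _)
    (PP_mem _) (PP_mem _) ?_ ?_ ?_ ?_ ?_ ?_ ?_ ?_ ?_ ?_ ?_ ?_ ?_
  · exact (show PP [wt1] * PP [wt1] = PP [wt1, wt1] by simp only [PP, mul_one]).trans
      (rel (l := [wt1, wt1]) (l' := []) (by decide +kernel))
  · exact (show PP [wt2] * PP [wt2] = PP [wt2, wt2] by simp only [PP, mul_one]).trans
      (rel (l := [wt2, wt2]) (l' := []) (by decide +kernel))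
  · have h := rel (l := [wt1, wt2]) (l' := [wt2, wt1]) (by decide +kernel)
    simpa only [PP, mul_one] using h
  · intro h
    have h1 := congrArg (fun g : Equiv.Perm (Fin 4060) => ((g b1 : Fin 4060) : ℕ)) h
    simp only [PP_apply] at h1
    have h2 : Nat.beq (ims [wt1] 0) 0 = false := by decide +kernel
    have h3 : Nat.beq (ims [wt1] 0) 0 = true := by rw [Nat.beq_eq]; exact h1
    rw [h2] at h3
    exact Bool.noConfusion h3
  · intro h
    have h1 := congrArg (fun g : Equiv.Perm (Fin 4060) => ((g b1 : Fin 4060) : ℕ)) h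
    simp only [PP_apply] at h1
    have h2 : Nat.beq (ims [wt1] 0) (ims [wt2] 0) = false := by decide +kernel
    have h3 : Nat.beq (ims [wt1] 0) (ims [wt2] 0) = true := by rw [Nat.beq_eq]; exact h1
    rw [h2] at h3
    exact Bool.noConfusion h3
  · have h := rel (l := [wy, wy, wy]) (l' := []) (by decide +kernel)
    rw [pow_succ, pow_two]
    simpa only [PP, mul_one, mul_assoc] using h
  · have h := rel (l := [wx, wx, wx]) (l' := []) (by decide +kernel)
    rw [pow_succ, pow_two]
    simpa only [PP, mul_one, mul_assoc] using h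
  · intro h
    have h1 := congrArg (fun g : Equiv.Perm (Fin 4060) => ((g b1 : Fin 4060) : ℕ)) h
    simp only [PP_apply] at h1
    have h2 : Nat.beq (ims [wx] 0) 0 = false := by decide +kernel
    have h3 : Nat.beq (ims [wx] 0) 0 = true := by rw [Nat.beq_eq]; exact h1
    rw [h2] at h3
    exact Bool.noConfusion h3
  · have h := rel (l := [wy, wx]) (l' := [wx, wy]) (by decide +kernel)
    simpa only [PP, mul_one] using h
  · have h := rel (l := [wy, wt1]) (l' := [wt2, wy]) (by decide +kernel)
    simpa only [PP, mul_one] using h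
  · have h := rel (l := [wy, wt2]) (l' := [wt1, wt2, wy]) (by decide +kernel)
    simpa only [PP, mul_one, mul_assoc] using h
  · have h := rel (l := [wx, wt1]) (l' := [wt1, wx]) (by decide +kernel)
    simpa only [PP, mul_one] using h
  · have h := rel (l := [wx, wt2]) (l' := [wt2, wx]) (by decide +kernel)
    simpa only [PP, mul_one] using h

/-- **the row `Ru`** -/
theorem ru : EWit 2 Spor.Ru :=
  EWit.of_injective RuLat.Main.equiv.symm.toMonoidHom RuLat.Main.equiv.symm.injective ewitH

end Cfsg.Agent.H817.Thin.Ru
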