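import Cfsg.Agent.H817.ThinBase

/-!
# Thin groups: tori of rank 2 in `PSL₃` and `PSU₃`, arithmetic (helper817)

* `exists_form` : a number prime to all primes `r ≥ 5`, not divisible by 9, is `2 ^ a * 3 ^ b`, `b ≤ 1`;
* `exists_prime_ge_five` : `2 ^ k - 1` has a prime divisor `≥ 5` if `k ≥ 3`;
* `Frame` : `π : Γ → G` with scalar kernel, `Γ` containing the matrices `diag(a, b, (ab)⁻¹)`, `a, b ∈ M`;
* `Frame.ewit_of_prime`, `Frame.ewit_of_nine`.
-/

set_option autoImplicit false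

namespace Cfsg.Agent.H817.Thin

open Cfsg Subgroup Cfsg.Agent.ETable

/-! ### arithmetic -/

theorem exists_form {m : ℕ} (hm : m ≠ 0) (h5 : ∀ r : ℕ, r.Prime → 5 ≤ r → ¬ r ∣ m) (h9 : ¬ 9 ∣ m) :
    ∃ a b : ℕ, m = 2 ^ a * 3 ^ b ∧ b ≤ 1 := by
  obtain ⟨a, n, hn, rfl⟩ := Nat.exists_eq_two_pow_mul_odd hm
  have hn2 : ¬ 2 ∣ n := fun h => (Nat.not_even_iff_odd.2 hn) (even_iff_two_dvd.2 h)
  have hsmall : ∀ r : ℕ, r.Prime → r ∣ n → r = 3 := by
    intro r hr hrn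
    by_contra h3
    have h2 : r ≠ 2 := by rintro rfl; exact hn2 hrn
    have h4 : r ≠ 4 := by rintro rfl; exact absurd hr (by norm_num)
    have : 5 ≤ r := by
      have := hr.two_le
      omega
    exact h5 r hr this (hrn.mul_left _)
  by_cases h3 : 3 ∣ n
  · obtain ⟨l, rfl⟩ := h3
    have hl : l = 1 := by
      by_contra hl
      obtain ⟨r, hr, hrl⟩ := Nat.exists_prime_and_dvd hl
      have := hsmall r hr (hrl.mul_left _)
      subst this
      obtain ⟨k, rfl⟩ := hrl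
      exact h9 ⟨2 ^ a * k, by ring⟩
    subst hl
    exact ⟨a, 1, by ring, le_rfl⟩
  · have hl : n = 1 := by
      by_contra hl
      obtain ⟨r, hr, hrl⟩ := Nat.exists_prime_and_dvd hl
      have := hsmall r hr hrl
      subst this
      exact h3 hrl
    subst hl
    exact ⟨a, 0, by ring, by norm_num⟩

theorem three_pow_mod (b : ℕ) : 3 ^ b % 8 = 1 ∨ 3 ^ b % 8 = 3 := by
  induction b with
  | zero => left; norm_num
  | succ b ih =>
    rw [pow_succ]
    omega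

theorem exists_prime_ge_five {k : ℕ} (hk : 3 ≤ k) : ∃ r : ℕ, r.Prime ∧ 5 ≤ r ∧ r ∣ 2 ^ k - 1 := by
  by_contra hcon
  push Not at hcon
  have h8 : 8 ∣ 2 ^ k := by
    have : (8 : ℕ) = 2 ^ 3 := by norm_num
    rw [this]; exact pow_dvd_pow 2 hk
  have hpos : 8 ≤ 2 ^ k := Nat.le_of_dvd (by positivity) h8
  have h1 : 2 ^ k - 1 = 3 ^ (2 ^ k - 1).primeFactorsList.length := by
    refine Nat.eq_prime_pow_of_unique_prime_dvd (by omega) ?_
    intro d hd hdd
    by_contra h3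
    have h2 : d ≠ 2 := by
      rintro rfl
      omega
    have h4 : d ≠ 4 := by rintro rfl; exact absurd hd (by norm_num)
    have := hd.two_le
    exact hcon d hd (by omega) hdd
  have := three_pow_mod (2 ^ k - 1).primeFactorsList.length
  rw [← h1] at this
  omega

/-! ### frames -/

/-- `π : Γ → G` with scalar kernel and diagonal elements -/
structure Frame {F : Type*} [Field F] {Γ G : Type*} [Group Γ] [Group G] (M : Subgroup Fˣ)
    (ρ : Γ →* Matrix (Fin 3) (Fin 3) F) (π : Γ →* G) : Prop where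
  ker : ∀ g : Γ, π g = 1 ↔ ∃ c : F, ρ g = c • (1 : Matrix (Fin 3) (Fin 3) F)
  dg : ∀ a ∈ M, ∀ b ∈ M, ∃ g : Γ, ρ g = Matrix.diagonal ![(a : F), (b : F), (((a * b)⁻¹ : Fˣ) : F)]

namespace Frame

variable {F : Type*} [Field F] {Γ G : Type*} [Group Γ] [Group G] {M : Subgroup Fˣ}
  {ρ : Γ →* Matrix (Fin 3) (Fin 3) F} {π : Γ →* G}

/-- the diagonal matrix -/
def dm (a b : Fˣ) : Matrix (Fin 3) (Fin 3) F := Matrix.diagonal ![(a : F), (b : F), (((a * b)⁻¹ : Fˣ) : F)]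

theorem dm_mul (a b c d : Fˣ) : dm a b * dm c d = dm (a * c) (b * d) := by
  unfold dm
  rw [Matrix.diagonal_mul_diagonal]
  congr 1
  funext i
  fin_cases i
  · simp
  · simp
  · simp only [Fin.reduceFinMk, Matrix.cons_val]
    rw [← Units.val_mul]
    congr 1
    rw [← mul_inv]
    congr 1
    exact mul_mul_mul_comm a b c d

theorem dm_one : dm (1 : Fˣ) (1 : Fˣ) = 1 := by
  unfold dm
  rw [← Matrix.diagonal_one]
  congr 1
  funext i
  fin_cases i <;> simp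

theorem dm_pow (a b : Fˣ) (n : ℕ) : dm a b ^ n = dm (a ^ n) (b ^ n) := by
  induction n with
  | zero => rw [pow_zero, pow_zero, pow_zero, dm_one]
  | succ n ih => rw [pow_succ, ih, dm_mul, pow_succ, pow_succ]

theorem dm_eq_smul {a b : Fˣ} {c : F} (h : dm a b = c • (1 : Matrix (Fin 3) (Fin 3) F)) :
    a = b ∧ a * a * a = 1 := by
  have h0 := congrFun (congrFun h 0) 0
  have h1 := congrFun (congrFun h 1) 1
  have h2 := congrFun (congrFun h 2) 2
  simp only [dm, Matrix.diagonal_apply_eq, Matrix.smul_apply, Matrix.one_apply_eq, smul_eq_mul, mul_one] at h0 h1 h2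
  have e0 : (a : F) = c := by simpa using h0
  have e1 : (b : F) = c := by simpa using h1
  have e2 : (((a * b)⁻¹ : Fˣ) : F) = c := by simpa using h2
  have hab : a = b := Units.ext (e0.trans e1.symm)
  refine ⟨hab, ?_⟩
  subst hab
  have h3 : (a * a)⁻¹ = a := Units.ext (e2.trans e0.symm)
  calc a * a * a = a * a * (a * a)⁻¹ := by rw [h3]
    _ = 1 := mul_inv_cancel _

variable (Fr : Frame M ρ π)

include Fr

theorem exists_dm {a b : Fˣ} (ha : a ∈ M) (hb : b ∈ M) : ∃ g : Γ, ρ g = dm a b := Fr.dg a ha b hb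

theorem comm {g h : Γ} {a b c d : Fˣ} (hg : ρ g = dm a b) (hh : ρ h = dm c d) : Commute (π g) (π h) := by
  have h1 : ρ (g * h * (h * g)⁻¹) = 1 := by
    have e : ρ (g * h) = ρ (h * g) := by
      rw [map_mul, map_mul, hg, hh, dm_mul, dm_mul, mul_comm a c, mul_comm b d]
    rw [map_mul, e, ← map_mul, mul_inv_cancel, map_one]
  have h2 : π (g * h * (h * g)⁻¹) = 1 := (Fr.ker _).2 ⟨1, by rw [h1, one_smul]⟩
  rw [map_mul, map_inv, mul_inv_eq_one, map_mul, map_mul] at h2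
  exact h2

/-- two diagonal elements with `π`-images equal up to a power -/
theorem zpow_eq {g h : Γ} {a b c d : Fˣ} (hg : ρ g = dm a b) (hh : ρ h = dm c d) (k : ℤ) (hk : π g ^ k = π h) :
    c * (a ^ k)⁻¹ = d * (b ^ k)⁻¹ ∧ (c * (a ^ k)⁻¹) * (c * (a ^ k)⁻¹) * (c * (a ^ k)⁻¹) = 1 := by
  -- reduce to units of the matrix ring
  have hρk : ρ (h * (g ^ k)⁻¹) = dm (c * (a ^ k)⁻¹) (d * (b ^ k)⁻¹) := by
    let ρ' : Γ →* (Matrix (Fin 3) (Fin 3) F)ˣ := ρ.toHomUnits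
    let dmU : Fˣ × Fˣ →* Matrix (Fin 3) (Fin 3) F :=
      { toFun := fun p => dm p.1 p.2
        map_one' := dm_one
        map_mul' := fun p q => (dm_mul _ _ _ _).symm }
    let dm' : Fˣ × Fˣ →* (Matrix (Fin 3) (Fin 3) F)ˣ := dmU.toHomUnits
    have e1 : ρ' g = dm' (a, b) := Units.ext hg
    have e2 : ρ' h = dm' (c, d) := Units.ext hh
    have e3 : ρ' (h * (g ^ k)⁻¹) = dm' ((c, d) * ((a, b) ^ k)⁻¹) := by
      rw [map_mul, map_mul, map_inv, map_inv, map_zpow, map_zpow, e1, e2]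
    have e4 := congrArg (fun z : (Matrix (Fin 3) (Fin 3) F)ˣ => (z : Matrix (Fin 3) (Fin 3) F)) e3
    exact e4
  have h1 : π (h * (g ^ k)⁻¹) = 1 := by
    rw [map_mul, map_inv, map_zpow, hk, mul_inv_cancel]
  obtain ⟨s, hs⟩ := (Fr.ker _).1 h1
  rw [hρk] at hs
  exact dm_eq_smul hs

variable [Finite G]

/-- a torus of rank 2 for a prime `r ≥ 5` -/
theorem ewit_of_prime {r : ℕ} (hr : r.Prime) (h5 : 5 ≤ r) {c : Fˣ} (hc : c ∈ M) (hco : orderOf c = r)
    (T : Subgroup G) (hT : IsPGroup 2 T) (hT1 : T ≠ ⊥)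
    (hn : ∀ g : Γ, (∃ a b : Fˣ, ρ g = dm a b) → π g ∈ normalizer (T : Set G)) : EWit 2 G := by
  obtain ⟨x, hx⟩ := Fr.exists_dm hc (one_mem M)
  obtain ⟨y, hy⟩ := Fr.exists_dm (one_mem M) hc
  have hcr : c ^ r = 1 := by rw [← hco]; exact pow_orderOf_eq_one c
  have hxr : π x ^ r = 1 := by
    rw [← map_pow]
    exact (Fr.ker _).2 ⟨1, by rw [map_pow, hx, dm_pow, hcr, one_pow, dm_one, one_smul]⟩
  have hyr : π y ^ r = 1 := by
    rw [← map_pow]
    exact (Fr.ker _).2 ⟨1, by rw [map_pow, hy, dm_pow, hcr, one_pow, dm_one, one_smul]⟩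
  have hc1 : c ≠ 1 := by
    rintro rfl
    rw [orderOf_one] at hco
    omega
  have hc3 : c * c * c ≠ 1 := by
    intro h
    have h1 : c ^ 3 = 1 := by rw [pow_succ, pow_two]; exact h
    have h2 := orderOf_dvd_of_pow_eq_one h1
    rw [hco] at h2
    have := Nat.le_of_dvd (by norm_num) h2
    omega
  refine ewit_two_of_pair hr (by omega) hxr hyr (Fr.comm hx hy) ?_ ?_ T hT hT1 (hn x ⟨_, _, hx⟩) (hn y ⟨_, _, hy⟩)
  · intro h
    obtain ⟨s, hs⟩ := (Fr.ker _).1 h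
    rw [hx] at hs
    exact hc1 (dm_eq_smul hs).1
  · rintro ⟨k, hk⟩
    obtain ⟨e1, e2⟩ := Fr.zpow_eq hx hy k hk
    rw [one_zpow, inv_one, mul_one, one_mul] at e1
    rw [one_mul, e1] at e2
    exact hc3 e2

/-- a torus of rank 2 for the prime 3, when `9` divides the order -/
theorem ewit_of_nine {c : Fˣ} (hc : c ∈ M) (hco : orderOf c = 9)
    (T : Subgroup G) (hT : IsPGroup 2 T) (hT1 : T ≠ ⊥)
    (hn : ∀ g : Γ, (∃ a b : Fˣ, ρ g = dm a b) → π g ∈ normalizer (T : Set G)) : EWit 2 G := by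
  obtain ⟨x, hx⟩ := Fr.exists_dm hc hc
  obtain ⟨y, hy⟩ := Fr.exists_dm (one_mem M) (pow_mem hc 3)
  have hc9 : c ^ 9 = 1 := by rw [← hco]; exact pow_orderOf_eq_one c
  have hc3 : c ^ 3 ≠ 1 := by
    intro h
    have h2 := orderOf_dvd_of_pow_eq_one h
    rw [hco] at h2
    exact absurd h2 (by norm_num)
  have hxr : π x ^ 3 = 1 := by
    rw [← map_pow]
    refine (Fr.ker _).2 ⟨((c ^ 3 : Fˣ) : F), ?_⟩
    rw [map_pow, hx, dm_pow]
    unfold dm
    have h1 : (c ^ 3 * c ^ 3)⁻¹ = c ^ 3 := by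
      rw [inv_eq_iff_mul_eq_one]
      calc c ^ 3 * c ^ 3 * c ^ 3 = c ^ 9 := by rw [← pow_add, ← pow_add]
        _ = 1 := hc9
    rw [h1]
    ext i j
    by_cases hij : i = j
    · subst hij
      rw [Matrix.diagonal_apply_eq, Matrix.smul_apply, Matrix.one_apply_eq, smul_eq_mul, mul_one]
      fin_cases i <;> rfl
    · rw [Matrix.diagonal_apply_ne _ hij, Matrix.smul_apply, Matrix.one_apply_ne hij, smul_zero]
  have hyr : π y ^ 3 = 1 := by
    rw [← map_pow]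
    exact (Fr.ker _).2 ⟨1, by rw [map_pow, hy, dm_pow, ← pow_mul, hc9, one_pow, dm_one, one_smul]⟩
  refine ewit_two_of_pair Nat.prime_three (by omega) hxr hyr (Fr.comm hx hy) ?_ ?_ T hT hT1 (hn x ⟨_, _, hx⟩)
    (hn y ⟨_, _, hy⟩)
  · intro h
    obtain ⟨s, hs⟩ := (Fr.ker _).1 h
    rw [hx] at hs
    have := (dm_eq_smul hs).2
    exact hc3 (by rw [pow_succ, pow_two]; exact this)
  · rintro ⟨k, hk⟩
    obtain ⟨e1, e2⟩ := Fr.zpow_eq hx hy k hk
    exact hc3 (mul_right_cancel e1).symm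

omit [Finite G] in
/-- the 2-group generated by `diag(1, -1, -1)` -/
theorem exists_sign (h2 : (2 : F) ≠ 0) (hM : (-1 : Fˣ) ∈ M) : ∃ T : Subgroup G, IsPGroup 2 T ∧ T ≠ ⊥ ∧
    ∀ g : Γ, (∃ a b : Fˣ, ρ g = dm a b) → π g ∈ normalizer (T : Set G) := by
  obtain ⟨z, hz⟩ := Fr.exists_dm (one_mem M) hM
  refine ⟨zpowers (π z), zpowers_two ?_, ?_, ?_⟩
  · rw [← map_mul]
    refine (Fr.ker _).2 ⟨1, ?_⟩
    rw [map_mul, hz, dm_mul, mul_one, neg_mul_neg, one_mul, dm_one, one_smul]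
  · intro h
    rw [zpowers_eq_bot] at h
    obtain ⟨s, hs⟩ := (Fr.ker _).1 h
    rw [hz] at hs
    have h1 := (dm_eq_smul hs).1
    have h3 : (1 : F) = -1 := by
      have := congrArg (fun u : Fˣ => (u : F)) h1
      simpa using this
    exact h2 (by linear_combination h3)
  · rintro g ⟨a, b, hg⟩
    have hc := Fr.comm hg hz
    refine (centralizer_le_normalizer _) ?_
    rw [mem_centralizer_iff]
    rintro _ ⟨k, rfl⟩
    exact ((hc.zpow_right k).eq).symm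

/-- **The torus dichotomy.** -/
theorem dichotomy (h2 : (2 : F) ≠ 0) (hM : (-1 : Fˣ) ∈ M) [Finite F] :
    EWit 2 G ∨ ∃ a b : ℕ, Nat.card M = 2 ^ a * 3 ^ b ∧ b ≤ 1 := by
  obtain ⟨T, hT, hT1, hn⟩ := Fr.exists_sign h2 hM
  by_cases h5 : ∃ r : ℕ, r.Prime ∧ 5 ≤ r ∧ r ∣ Nat.card M
  · obtain ⟨r, hr, h5, hd⟩ := h5
    have : Fact r.Prime := ⟨hr⟩
    obtain ⟨c, hc⟩ := exists_prime_orderOf_dvd_card' r hd
    exact Or.inl (Fr.ewit_of_prime hr h5 (c := (c : Fˣ)) c.2 (by rw [Subgroup.orderOf_coe]; exact hc) T hT hT1 hn)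
  by_cases h9 : 9 ∣ Nat.card M
  · have hcy : IsCyclic M := inferInstance
    obtain ⟨g, hg⟩ := hcy.exists_generator
    have hog : orderOf g = Nat.card M := orderOf_eq_card_of_forall_mem_zpowers hg
    obtain ⟨l, hl⟩ := h9
    have hl0 : l ≠ 0 := by
      rintro rfl
      have := Nat.card_pos (α := M)
      omega
    have h1 : orderOf (g ^ l) = 9 := by
      rw [orderOf_pow' g hl0, hog, hl, Nat.gcd_eq_right (Dvd.intro_left 9 rfl), Nat.mul_div_cancel _ (Nat.pos_of_ne_zero hl0)]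
    exact Or.inl (Fr.ewit_of_nine (c := ((g ^ l : M) : Fˣ)) (g ^ l).2 (by rw [Subgroup.orderOf_coe]; exact h1)
      T hT hT1 hn)
  · right
    refine exists_form Nat.card_pos.ne' ?_ h9
    intro r hr h5' hd
    exact h5 ⟨r, hr, h5', hd⟩

end Frame

end Cfsg.Agent.H817.Thin
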