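import Cfsg.Agent.UGT.U2.FOne.PSUSemi
import Cfsg.Agent.H907.SU3Mono
import Cfsg.Agent.GTwoOdd.CentPSU
import Cfsg.Agent.S0283
import Cfsg.Agent.H422.LTwoElts

/-!
# The frame stabiliser in almost simple groups with socle `U₃(5)` (helper817)
-/

set_option autoImplicit false
set_option linter.unusedSectionVars false

namespace Cfsg.Agent.H817.UThreeFive

open Matrix Cfsg
open Cfsg.Agent.LieClassical.HermBasic Cfsg.Agent.LieClassical.SUBasic
open Cfsg.Agent.LieClassical.HermSiegel (mat mat_def act_def act_one act_mul act_smul act_add ext_act)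
open Cfsg.Agent.ClassicalGeometry.PSUAutCount (gm gm_def semiConj toAut gm_mul gm_one gm_mul_inv gm_inv_mul eq_of_toAut_eq
  act_semiConj gm_mulVec_inv gm_inv_mulVec herm_gm)
open Cfsg.Agent.ClassicalGeometry.UnitAutBasic (pr pr_surjective)
open Cfsg.Agent.Schreier.PSU (toAut_pr' mapGU gm_mapGU)
open Cfsg.Agent.UGT.U2.FOne.PSUSemi (S S_def S_smul S_S toAut_mul)
open Cfsg.Agent.H907.Mdl Cfsg.Agent.H907.Mdl.SU35 Cfsg.Agent.H907.SU3

/-- the action of `SU` on vectors -/
local notation "ac" => Cfsg.Agent.LieClassical.HermSiegel.act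

section vec

variable {F : Type*} [Field F] [Fintype F] {θ : F} (hg : Good c5 θ) (hF : Fintype.card F = 5 ^ 2)

/-- the vectors on the 105 lines -/
def XX (θ : F) : Set (Fin 3 → F) := {x | ∃ c : F, c ≠ 0 ∧ ∃ v ∈ S105, x = c • toV θ v}

include hg in
theorem toV_ne {v : V} (hv : v ∈ S105) : toV θ v ≠ 0 := by
  intro h0
  have h1 := okS105
  rw [okS, List.all_eq_true] at h1
  have h2 := h1 v hv
  simp only [Bool.and_eq_true] at h2
  have h3 := toV_eq_zero hg h2.1 h0
  rw [h3] at h2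
  simp at h2

include hg in
/-- members of the stabiliser preserve `XX` -/
theorem mulVec_mem_XX {g : GL (Fin 3) F} (h : g ∈ stab (lineSet θ S105)) {x : Fin 3 → F} (hx : x ∈ XX θ) :
    (g : Matrix (Fin 3) (Fin 3) F) *ᵥ x ∈ XX θ := by
  obtain ⟨c, hc, v, hv, rfl⟩ := hx
  obtain ⟨u, hu, hu'⟩ := (mem_stab.1 h (line θ v)).2 ⟨v, hv, rfl⟩
  rw [line, act_span, line, Submodule.span_singleton_eq_span_singleton] at hu'
  obtain ⟨z, hz⟩ := hu'
  refine ⟨c * (z⁻¹ : Fˣ), mul_ne_zero hc (Units.ne_zero _), u, hu, ?_⟩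
  rw [Matrix.mulVec_smul, ← hz, mul_smul]
  congr 1
  rw [Units.smul_def, smul_smul, Units.inv_mul, one_smul]

include hg in
/-- conversely -/
theorem mem_stab_of_XX {g : GL (Fin 3) F} (h : ∀ x ∈ XX θ, (g : Matrix (Fin 3) (Fin 3) F) *ᵥ x ∈ XX θ) :
    g ∈ stab (lineSet θ S105) := by
  apply mem_stab_of_mapsTo (lineSet_finite θ S105)
  rintro _ ⟨v, hv, rfl⟩
  obtain ⟨c, hc, u, hu, hu'⟩ := h (toV θ v) ⟨1, one_ne_zero, v, hv, (one_smul _ _).symm⟩
  refine ⟨u, hu, ?_⟩
  rw [line, act_span, hu', line]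
  exact Submodule.span_singleton_smul_eq (IsUnit.mk0 _ hc) _

theorem chk_frob : (S105.all fun v => S105.any fun u => veq (vcj c5 v) u) = true := by decide +kernel

include hg hF in
theorem frob_mem_XX {x : Fin 3 → F} (hx : x ∈ XX θ) : (fun i => x i ^ 5) ∈ XX θ := by
  obtain ⟨c, hc, v, hv, rfl⟩ := hx
  have h1 := chk_frob
  rw [List.all_eq_true] at h1
  have h2 := h1 v hv
  simp only [List.any_eq_true] at h2
  obtain ⟨u, hu, huv⟩ := h2
  refine ⟨c ^ 5, pow_ne_zero _ hc, u, hu, ?_⟩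
  rw [← veq_eq huv]
  ext i
  rw [Pi.smul_apply, Pi.smul_apply, smul_eq_mul, smul_eq_mul, mul_pow]
  congr 1
  fin_cases i
  · exact (ev_kpow hg v.1 5).symm
  · exact (ev_kpow hg v.2.1 5).symm
  · exact (ev_kpow hg v.2.2 5).symm

include hF in
theorem charP5 : CharP F 5 := by
  obtain ⟨θ, hg⟩ := exists_good5 hF
  exact hg.char

include hF in
/-- field automorphisms -/
theorem aut_cases (ρ : F ≃+* F) : ρ = 1 ∨ ∀ x, ρ x = x ^ 5 := by
  have := charP5 hF
  have : Fact (Nat.Prime 5) := ⟨by norm_num⟩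
  obtain ⟨i, hi⟩ := Cfsg.Agent.H422.LTwo.exists_frob (p := 5) ρ
  have h25 : ∀ x : F, x ^ 25 = x := by
    intro x
    have := FiniteField.pow_card x
    rwa [hF] at this
  have key : ∀ j : ℕ, (∀ x : F, x ^ 5 ^ (2 * j) = x) ∧ (∀ x : F, x ^ 5 ^ (2 * j + 1) = x ^ 5) := by
    intro j
    have h1 : ∀ x : F, x ^ 5 ^ (2 * j) = x := by
      intro x
      induction j with
      | zero => simp
      | succ j ih =>
        rw [show 2 * (j + 1) = 2 * j + 2 from by ring, pow_add, pow_mul, ih]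
        exact h25 x
    refine ⟨h1, fun x => ?_⟩
    rw [pow_succ, pow_mul, h1]
  rcases Nat.even_or_odd' i with ⟨j, rfl | rfl⟩
  · left
    apply RingEquiv.ext
    intro x
    rw [hi, (key j).1]
    rfl
  · right
    intro x
    rw [hi, (key j).2]

end vec

section stab

variable {F : Type*} [Field F] [Fintype F]

/-- the stabiliser in `SU` of a set of vectors -/
def StS (Y : Set (Fin 3 → F)) : Subgroup (SU 3 F 5) where
  carrier := {g | ∀ y, ac g y ∈ Y ↔ y ∈ Y}
  one_mem' y := by rw [act_one]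
  mul_mem' {a b} ha hb y := by rw [act_mul, ha, hb]
  inv_mem' {a} ha y := by rw [← ha, ← act_mul, mul_inv_cancel, act_one]

theorem mem_StS {Y : Set (Fin 3 → F)} {g : SU 3 F 5} : g ∈ StS Y ↔ ∀ y, ac g y ∈ Y ↔ y ∈ Y := Iff.rfl

/-- the image in `PSU` -/
def StP (Y : Set (Fin 3 → F)) : Subgroup (PSU 3 F 5) := (StS Y).map (pr 3 F 5)

/-- the semilinear map `S A ρ` as a bijection -/
theorem S_injective (A : GU 3 F 5) (ρ : F ≃+* F) : Function.Injective (S A ρ) := by
  intro x y h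
  rw [S_def, S_def] at h
  have h1 := congrArg (fun v => gm A⁻¹ *ᵥ v) h
  simp only [gm_inv_mulVec] at h1
  funext i
  exact ρ.injective (congrFun h1 i)

theorem S_surjOn (A : GU 3 F 5) (ρ : F ≃+* F) {Y : Set (Fin 3 → F)} (h : ∀ y ∈ Y, S A ρ y ∈ Y) :
    ∀ y, S A ρ y ∈ Y ↔ y ∈ Y := by
  have hinj : Set.InjOn (S A ρ) Y := (S_injective A ρ).injOn
  have hsub : S A ρ '' Y ⊆ Y := by
    rintro _ ⟨W, hW, rfl⟩
    exact h W hW
  have heq : S A ρ '' Y = Y :=
    Set.eq_of_subset_of_ncard_le hsub (by rw [hinj.ncard_image]) (Set.toFinite _)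
  intro y
  constructor
  · intro hy
    rw [← heq] at hy
    obtain ⟨u, hu, huy⟩ := hy
    rwa [← S_injective A ρ huy]
  · exact h y

theorem S_surjective (A : GU 3 F 5) (ρ : F ≃+* F) : Function.Surjective (S A ρ) :=
  Finite.surjective_of_injective (S_injective A ρ)

theorem act_semi (A : GU 3 F 5) (ρ : F ≃+* F) (g : SU 3 F 5) (x : Fin 3 → F) :
    ac (semiConj A ρ g) (S A ρ x) = S A ρ (ac g x) := act_semiConj A ρ g x

/-- semilinear maps preserving the set of vectors normalise the stabiliser -/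
theorem toAut_mem_StP (A : GU 3 F 5) (ρ : F ≃+* F) {Y : Set (Fin 3 → F)} (h : ∀ y ∈ Y, S A ρ y ∈ Y)
    {x : PSU 3 F 5} (hx : x ∈ StP Y) : toAut A ρ x ∈ StP Y := by
  obtain ⟨g, hg, rfl⟩ := hx
  rw [toAut_pr']
  refine ⟨_, ?_, rfl⟩
  show semiConj A ρ g ∈ StS Y
  rw [mem_StS]
  intro y
  obtain ⟨z, rfl⟩ := S_surjective A ρ y
  rw [act_semi, S_surjOn A ρ h, S_surjOn A ρ h]
  exact hg z

theorem exists_scalar (hF : Fintype.card F = 5 ^ 2) {z : SU 3 F 5} (hz : z ∈ Subgroup.center (SU 3 F 5)) :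
    ∃ c : F, c ≠ 0 ∧ ∀ v, ac z v = c • v := by
  obtain ⟨c, h1, -, h2⟩ := Cfsg.Agent.ClassicalGeometry.PSUAutBasic.exists_scalar_of_mem_center hF le_rfl hz
  exact ⟨c, h1, h2⟩

/-- for a set of vectors closed under scalars the stabiliser contains the centre -/
theorem mem_StS_of_pr (hF : Fintype.card F = 5 ^ 2) {Y : Set (Fin 3 → F)} (hY : ∀ c : F, c ≠ 0 → ∀ y ∈ Y, c • y ∈ Y)
    {g : SU 3 F 5} (h : pr 3 F 5 g ∈ StP Y) : g ∈ StS Y := by
  obtain ⟨k, hk, hkg⟩ := h
  have h1 : k⁻¹ * g ∈ Subgroup.center (SU 3 F 5) := QuotientGroup.eq.1 hkg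
  obtain ⟨c, hc, hz⟩ := exists_scalar hF h1
  have h2 : k⁻¹ * g ∈ StS Y := by
    rw [mem_StS]
    intro y
    rw [hz]
    constructor
    · intro h
      have := hY c⁻¹ (inv_ne_zero hc) _ h
      rwa [smul_smul, inv_mul_cancel₀ hc, one_smul] at this
    · exact hY c hc y
  have h3 : g = k * (k⁻¹ * g) := by group
  rw [h3]
  exact mul_mem hk h2

end stab

section delta

variable {F : Type*} [Field F] [Fintype F] {θ : F} (hg : Good c5 θ) (hF : Fintype.card F = 5 ^ 2)

/-- `diag(c, 1, 1)` -/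
def dl (c : F) (hc : c ^ 6 = 1) : GU 3 F 5 :=
  Cfsg.Agent.ClassicalGeometry.GUBasic.guDiag 5 (fun j => if j = 0 then c else 1) (fun i => by
    split_ifs
    · exact hc
    · exact one_pow _)

theorem gm_dl (c : F) (hc : c ^ 6 = 1) : gm (dl c hc) = Matrix.diagonal (fun j : Fin 3 => if j = 0 then c else 1) := rfl

theorem dl_mulVec (c : F) (hc : c ^ 6 = 1) (x : Fin 3 → F) :
    gm (dl c hc) *ᵥ x = fun j => (if j = 0 then c else 1) * x j := by
  funext i
  rw [gm_dl, Matrix.mulVec_diagonal]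

theorem det_dl (c : F) (hc : c ^ 6 = 1) : (gm (dl c hc)).det = c := by
  rw [gm_dl, Matrix.det_diagonal, Fin.prod_univ_three]
  simp

/-- the translates of `XX` -/
def XI (θ c : F) (hc : c ^ 6 = 1) : Set (Fin 3 → F) := {y | ∃ x ∈ XX θ, y = gm (dl c hc) *ᵥ x}

theorem XX_smul {c : F} (hc : c ≠ 0) {x : Fin 3 → F} (hx : x ∈ XX θ) : c • x ∈ XX θ := by
  obtain ⟨d, hd, v, hv, rfl⟩ := hx
  exact ⟨c * d, mul_ne_zero hc hd, v, hv, by rw [smul_smul]⟩

theorem XI_smul {d : F} {hd : d ^ 6 = 1} : ∀ c : F, c ≠ 0 → ∀ y ∈ XI θ d hd, c • y ∈ XI θ d hd := by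
  rintro c hc _ ⟨x, hx, rfl⟩
  exact ⟨c • x, XX_smul hc hx, by rw [Matrix.mulVec_smul]⟩

theorem mul_inj_gm (A : GU 3 F 5) {x y : Fin 3 → F} (h : gm A *ᵥ x = gm A *ᵥ y) : x = y := by
  have h1 := congrArg (fun v => gm A⁻¹ *ᵥ v) h
  simpa only [gm_inv_mulVec] using h1

theorem det_gm_mul (A B : GU 3 F 5) : (gm (A * B)).det = (gm A).det * (gm B).det := by
  rw [gm_mul, Matrix.det_mul]

theorem det_gm_inv (A : GU 3 F 5) : (gm A⁻¹).det * (gm A).det = 1 := by
  rw [← Matrix.det_mul, gm_inv_mul, Matrix.det_one]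

theorem det_mapGU (ρ : F ≃+* F) (A : GU 3 F 5) : (gm (mapGU ρ A)).det = ρ (gm A).det := by
  rw [RingEquiv.map_det]
  rfl

include hg hF in
/-- **Lemma A** -/
theorem S_mem_XI {A : GU 3 F 5} {ρ : F ≃+* F} {c : F} {hc : c ^ 6 = 1}
    (hmono : IsMono (A : GL (Fin 3) F)) (hdet : ((gm A).det * ρ c) ^ 2 = c ^ 2) :
    ∀ y ∈ XI θ c hc, S A ρ y ∈ XI θ c hc := by
  rintro _ ⟨x, hx, rfl⟩
  have hρx : (fun i => ρ (x i)) ∈ XX θ := by
    rcases aut_cases hF ρ with rfl | h
    · exact hx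
    · simp only [h]
      exact frob_mem_XX hg hF hx
  set N : GU 3 F 5 := (dl c hc)⁻¹ * A * mapGU ρ (dl c hc) with hN
  have h1 : S A ρ (gm (dl c hc) *ᵥ x) = gm (dl c hc) *ᵥ (gm N *ᵥ fun i => ρ (x i)) := by
    rw [S_def, ← gm_mapGU, hN, gm_mul, gm_mul, ← Matrix.mulVec_mulVec, ← Matrix.mulVec_mulVec, gm_mulVec_inv]
  rw [h1]
  refine ⟨_, ?_, rfl⟩
  have hc0 : c ≠ 0 := by
    rintro rfl
    norm_num at hc
  have hNm : (N : GL (Fin 3) F) ∈ stab (lineSet θ S105) := by
    apply mono_mem' hg hF N.2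
    · change (gm N).det ^ 2 = 1
      rw [hN, det_gm_mul, det_gm_mul, det_mapGU, det_dl, mul_assoc, mul_pow, hdet, ← mul_pow]
      have := det_gm_inv (dl c hc)
      rw [det_dl] at this
      rw [this, one_pow]
    · obtain ⟨j, hj⟩ := hmono
      refine ⟨j, fun i => ?_⟩
      obtain ⟨a, ha⟩ := hj i
      have e1 : gm (mapGU ρ (dl c hc)) *ᵥ (Pi.single i 1) = (ρ (if i = 0 then c else 1)) • Pi.single i 1 := by
        have h2 : (Pi.single i 1 : Fin 3 → F) = fun k => ρ ((Pi.single i 1 : Fin 3 → F) k) := by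
          funext k
          rcases eq_or_ne k i with rfl | hk
          · simp
          · simp [hk]
        rw [h2, gm_mapGU, ← h2, dl_mulVec]
        funext k
        rcases eq_or_ne k i with rfl | hk
        · simp
        · simp [hk]
      have e2 : ∀ k : Fin 3, gm (dl c hc)⁻¹ *ᵥ (Pi.single k 1) = (if k = 0 then c else 1)⁻¹ • Pi.single k 1 := by
        intro k
        apply mul_inj_gm (dl c hc)
        rw [gm_mulVec_inv, dl_mulVec]
        funext l
        rcases eq_or_ne l k with rfl | hk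
        · by_cases hl : l = 0
          · simp [hl, hc0]
          · simp [hl]
        · simp [hk]
      refine ⟨ρ (if i = 0 then c else 1) * (a * (if j i = 0 then c else 1)⁻¹), ?_⟩
      change gm N *ᵥ _ = _
      rw [hN, gm_mul, gm_mul, ← Matrix.mulVec_mulVec, ← Matrix.mulVec_mulVec, e1, Matrix.mulVec_smul]
      have ha' : gm A *ᵥ (Pi.single i 1) = a • Pi.single (j i) 1 := ha
      rw [ha', Matrix.mulVec_smul, Matrix.mulVec_smul, e2, smul_smul, smul_smul]
      congr 1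
      ring
  exact mulVec_mem_XX hg hNm hρx

/-- an element of `SU` in `GU` -/
def gu (g : SU 3 F 5) : GU 3 F 5 := ⟨Cfsg.Agent.H918.suHom 3 F 5 g, (Cfsg.Agent.H918.suHom_mem g).1⟩

theorem gm_gu (g : SU 3 F 5) : gm (gu g) = mat g := rfl

theorem conj_pr (g : SU 3 F 5) : MulAut.conj (pr 3 F 5 g) = toAut (gu g) 1 :=
  (Cfsg.Agent.Schreier.PSU.f₁_eq_conj (gu g) g rfl).symm

theorem det_gu (g : SU 3 F 5) : (gm (gu g)).det = 1 := (g : Matrix.SpecialLinearGroup (Fin 3) F).2

theorem S_one (A : GU 3 F 5) (x : Fin 3 → F) : S A 1 x = gm A *ᵥ x := rfl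

include hg hF in
/-- the translated stabiliser is proper -/
theorem StP_ne_top {c : F} {hc : c ^ 6 = 1} : StP (XI θ c hc) ≠ ⊤ := by
  intro htop
  obtain ⟨g₀, hg₀, hn⟩ := exists_not_mem hg hF
  obtain ⟨g, rfl⟩ := Cfsg.Agent.H918.exists_suHom hg₀
  apply hn
  have h1 : pr 3 F 5 (semiConj (dl c hc) 1 g) ∈ StP (XI θ c hc) := by rw [htop]; trivial
  have h2 := mem_StS_of_pr hF XI_smul h1
  apply mem_stab_of_XX hg
  intro x hx
  have h3 := (mem_StS.1 h2 (S (dl c hc) 1 x)).2 ⟨x, hx, rfl⟩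
  rw [act_semi] at h3
  obtain ⟨y, hy, hxy⟩ := h3
  rw [S_one] at hxy
  have h4 : ((Cfsg.Agent.H918.suHom 3 F 5 g : GL (Fin 3) F) : Matrix (Fin 3) (Fin 3) F) *ᵥ x = ac g x := rfl
  rw [h4, mul_inj_gm _ hxy]
  exact hy

include hg hF in
/-- an element of the translated stabiliser that is not monomial -/
theorem exists_not_mono {c : F} {hc : c ^ 6 = 1} :
    ∃ g : SU 3 F 5, pr 3 F 5 g ∈ StP (XI θ c hc) ∧ ¬ IsMono ((gu g : GU 3 F 5) : GL (Fin 3) F) := by
  obtain ⟨X, hXS, hX⟩ := exists_SU hg hF (m := mx) (by decide +kernel)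
  have hXL : X ∈ stab (lineSet θ S105) := mem_stab_of_chk hg okS105 chk_mx hX
  obtain ⟨x, rfl⟩ : ∃ x : SU 3 F 5, Cfsg.Agent.H918.suHom 3 F 5 x = X := Cfsg.Agent.H918.exists_suHom hXS
  have hc0 : c ≠ 0 := by
    rintro rfl
    norm_num at hc
  refine ⟨semiConj (dl c hc) 1 x, ⟨_, ?_, rfl⟩, ?_⟩
  · show _ ∈ StS _
    have h1 : ∀ y ∈ XI θ c hc, ac (semiConj (dl c hc) 1 x) y ∈ XI θ c hc := by
      rintro _ ⟨y, hy, rfl⟩
      rw [← S_one, act_semi]
      exact ⟨_, mulVec_mem_XX hg hXL hy, rfl⟩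
    have h2 := S_surjOn (gu (semiConj (dl c hc) 1 x)) 1 (Y := XI θ c hc) h1
    exact h2
  · rintro ⟨j, hj⟩
    obtain ⟨a, ha⟩ := hj 0
    have e0 : (Pi.single 0 1 : Fin 3 → F) = S (dl c hc) 1 (c⁻¹ • Pi.single 0 1) := by
      rw [S_one, dl_mulVec]
      funext k
      rcases eq_or_ne k 0 with rfl | hk
      · simp [hc0]
      · simp [hk]
    have ha' : ac (semiConj (dl c hc) 1 x) (Pi.single 0 1) = a • Pi.single (j 0) 1 := ha
    rw [e0, act_semi, S_one, dl_mulVec, act_smul] at ha'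
    have hne : ∀ k, toM θ mx k 0 ≠ 0 := by
      intro k
      rw [← ev_zero hg]
      fin_cases k
      · exact kne_ne hg (x := (3, 0)) (y := (0, 0)) (by decide)
      · exact kne_ne hg (x := (4, 0)) (y := (0, 0)) (by decide)
      · exact kne_ne hg (x := (4, 0)) (y := (0, 0)) (by decide)
    obtain ⟨k, hk⟩ : ∃ k : Fin 3, k ≠ j 0 := exists_ne _
    have h2 := congrFun ha' k
    have h3 : ac x (Pi.single 0 1) k = toM θ mx k 0 := by
      have h4 : ac x (Pi.single 0 1) = ((Cfsg.Agent.H918.suHom 3 F 5 x : GL (Fin 3) F) : Matrix (Fin 3) (Fin 3) F) *ᵥ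
        (Pi.single 0 1) := rfl
      rw [h4, hX, Matrix.mulVec_single_one]
      rfl
    simp only [Pi.smul_apply, smul_eq_mul, h3, Pi.single_apply, hk, if_false, mul_zero] at h2
    have h5 : (if k = 0 then c else 1) ≠ 0 := by
      split_ifs
      · exact hc0
      · exact one_ne_zero
    exact mul_ne_zero h5 (mul_ne_zero (inv_ne_zero hc0) (hne k)) h2

end delta

section invol

variable {F : Type*} [Field F] [Fintype F] {θ : F} (hg : Good c5 θ) (hF : Fintype.card F = 5 ^ 2)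

/-- the standard involutions -/
def vs (F : Type*) [Field F] (k : Fin 3) : SU 3 F 5 :=
  suDiag 5 (fun j => if j = k then 1 else -1) (by
    fin_cases k <;> simp [Fin.prod_univ_three]) (fun i => by
    split_ifs
    · exact one_pow _
    · norm_num)

theorem act_vs (k : Fin 3) (x : Fin 3 → F) : ac (vs F k) x = fun j => (if j = k then 1 else -1) * x j := by
  funext i
  rw [act_def, mat_def]
  change (Matrix.diagonal (fun j => if j = k then (1 : F) else -1) *ᵥ x) i = _
  rw [Matrix.mulVec_diagonal]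

theorem vs_mul_self (k : Fin 3) : vs F k * vs F k = 1 := by
  apply ext_act
  intro x
  rw [act_mul, act_one, act_vs, act_vs]
  funext j
  by_cases h : j = k
  · simp [h]
  · simp [h]

include hF in
theorem two_ne : (2 : F) ≠ 0 := Cfsg.Agent.GTwoOdd.CentPSU.two_ne hF (by decide)

include hF in
/-- **Lemma C** -/
theorem isMono_of_perm {A : GU 3 F 5} {ρ : F ≃+* F}
    (h : ∀ k, ∃ l, toAut A ρ (pr 3 F 5 (vs F k)) = pr 3 F 5 (vs F l)) : IsMono (A : GL (Fin 3) F) := by
  choose l hl using h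
  refine ⟨l, fun k => ?_⟩
  have h1 := hl k
  rw [toAut_pr'] at h1
  have h2 : (vs F (l k))⁻¹ * semiConj A ρ (vs F k) ∈ Subgroup.center (SU 3 F 5) := QuotientGroup.eq.1 h1.symm
  set z := (vs F (l k))⁻¹ * semiConj A ρ (vs F k) with hz
  have h3 : semiConj A ρ (vs F k) = vs F (l k) * z := by rw [hz]; group
  have h4 : z * z = 1 := by
    have h5 : semiConj A ρ (vs F k) * semiConj A ρ (vs F k) = 1 := by
      rw [← map_mul, vs_mul_self, map_one]
    rw [h3] at h5
    have h6 := Subgroup.mem_center_iff.1 h2 (vs F (l k))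
    calc z * z = (vs F (l k) * vs F (l k)) * (z * z) := by rw [vs_mul_self, one_mul]
      _ = vs F (l k) * (vs F (l k) * z) * z := by group
      _ = vs F (l k) * (z * vs F (l k)) * z := by rw [h6]
      _ = vs F (l k) * z * (vs F (l k) * z) := by group
      _ = 1 := h5
  have h7 := Cfsg.Agent.GTwoOdd.Core.HFiveB.pow_three_of_center hF (by decide) h2
  have h8 : z = 1 := by
    calc z = z ^ 3 * (z * z)⁻¹ := by rw [pow_succ, pow_two]; group
      _ = 1 := by rw [h7, h4]; group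
  rw [h8, mul_one] at h3
  have h9 := act_semi A ρ (vs F k) (Pi.single k 1)
  have e1 : ac (vs F k) (Pi.single k 1) = Pi.single k 1 := by
    rw [act_vs]
    funext j
    rcases eq_or_ne j k with rfl | hj
    · simp
    · simp [hj]
  have e2 : S A ρ (Pi.single k 1) = gm A *ᵥ Pi.single k 1 := by
    rw [S_def]
    congr 1
    funext j
    rcases eq_or_ne j k with rfl | hj
    · simp
    · simp [hj]
  rw [e1, h3, e2, act_vs] at h9
  refine ⟨(gm A *ᵥ Pi.single k 1) (l k), ?_⟩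
  change gm A *ᵥ Pi.single k 1 = _
  funext j
  rcases eq_or_ne j (l k) with rfl | hj
  · simp
  · have h10 := congrFun h9 j
    simp only [if_neg hj] at h10
    have h11 : 2 * (gm A *ᵥ Pi.single k 1) j = 0 := by linear_combination -h10
    rw [(mul_eq_zero.1 h11).resolve_left (two_ne hF)]
    simp [hj]

/-- diagonal elements centralise the standard involutions -/
theorem toAut_diag {D : GU 3 F 5} (h : ∀ i, ∃ b : F, gm D *ᵥ Pi.single i 1 = b • Pi.single i 1) (k : Fin 3) :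
    toAut D 1 (pr 3 F 5 (vs F k)) = pr 3 F 5 (vs F k) := by
  choose b hb using h
  have hD : gm D = Matrix.diagonal b := by
    ext i j
    have := congrFun (hb j) i
    rw [Matrix.mulVec_single_one] at this
    rcases eq_or_ne i j with rfl | hij
    · simpa using this
    · simpa [hij] using this
  rw [toAut_pr']
  congr 1
  apply ext_act
  intro x
  obtain ⟨y, rfl⟩ := S_surjective D 1 x
  rw [act_semi, act_vs, act_vs, S_one, S_one, hD]
  funext j
  rw [Matrix.mulVec_diagonal, Matrix.mulVec_diagonal]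
  ring

include hg in
theorem theta_cube : θ ^ 3 = 1 := by
  have hr := root hg
  linear_combination (θ - 1) * hr

include hg in
theorem zeta_six : (-θ) ^ 6 = 1 := by
  have h3 := theta_cube hg
  linear_combination (θ ^ 3 + 1) * h3

include hg hF in
theorem orderOf_zeta : orderOf (-θ) = 6 := by
  have hr := root hg
  have h3 := theta_cube hg
  have h2 := two_ne hF
  have h5 : (5 : F) = 0 := by
    have := cast_p hg
    simp only [c5] at this
    exact_mod_cast this
  apply orderOf_eq_of_pow_and_pow_div_prime (by norm_num) (zeta_six hg)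
  intro p hp hd
  have h6 : p = 2 ∨ p = 3 := by
    have : p ∣ 2 * 3 := hd
    rcases hp.dvd_mul.1 this with h | h
    · exact Or.inl ((Nat.prime_dvd_prime_iff_eq hp Nat.prime_two).1 h)
    · exact Or.inr ((Nat.prime_dvd_prime_iff_eq hp Nat.prime_three).1 h)
  rcases h6 with rfl | rfl
  · intro h
    apply h2
    have h' : (-θ) ^ 3 = 1 := h
    linear_combination -h' - h3
  · intro h
    have h' : (-θ) ^ 2 = 1 := h
    have h7 : θ = -2 := by linear_combination hr - h'
    rw [h7] at h'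
    apply h2
    linear_combination h5 - h'

/-- the diagonal matrices of `SU_3(5)` -/
def tt (hg : Good c5 θ) (m n : ℕ) : SU 3 F 5 :=
  suDiag 5 (![(-θ) ^ m, (-θ) ^ (5 * m + n), (-θ) ^ (5 * n)] : Fin 3 → F) (by
    rw [Fin.prod_univ_three]
    simp only [Matrix.cons_val_zero, Matrix.cons_val_one, Matrix.cons_val]
    rw [← pow_add, ← pow_add, show m + (5 * m + n) + 5 * n = 6 * (m + n) from by ring, pow_mul, zeta_six hg, one_pow])
    (by
      have h : ∀ k : ℕ, ((-θ) ^ k) ^ (5 + 1) = 1 := by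
        intro k
        rw [← pow_mul, mul_comm, pow_mul, zeta_six hg, one_pow]
      intro i
      fin_cases i
      · exact h _
      · exact h _
      · exact h _)

theorem act_tt (hg : Good c5 θ) (m n : ℕ) (x : Fin 3 → F) :
    ac (tt hg m n) x = fun j => (![(-θ) ^ m, (-θ) ^ (5 * m + n), (-θ) ^ (5 * n)] : Fin 3 → F) j * x j := by
  funext i
  rw [act_def, mat_def]
  change (Matrix.diagonal (![(-θ) ^ m, (-θ) ^ (5 * m + n), (-θ) ^ (5 * n)] : Fin 3 → F) *ᵥ x) i = _
  rw [Matrix.mulVec_diagonal]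

include hF in
/-- the diagonal torus of `PSU_3(5)` has at least 12 elements -/
theorem twelve_le {Q : Subgroup (PSU 3 F 5)} (h : ∀ m n, pr 3 F 5 (tt hg m n) ∈ Q) : 12 ≤ Nat.card Q := by
  have hQ : Finite Q := by
    have : Finite (PSU 3 F 5) := Quotient.finite _
    infer_instance
  have h12 : Nat.card (Fin 6 × Fin 2) = 12 := by simp
  rw [← h12]
  refine Nat.card_le_card_of_injective (fun a : Fin 6 × Fin 2 => (⟨pr 3 F 5 (tt hg a.1 a.2), h _ _⟩ : Q)) ?_
  rintro ⟨m, n⟩ ⟨m', n'⟩ hab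
  have h1 : pr 3 F 5 (tt hg m n) = pr 3 F 5 (tt hg m' n') := congrArg Subtype.val hab
  have h2 : (tt hg m n)⁻¹ * tt hg m' n' ∈ Subgroup.center (SU 3 F 5) := QuotientGroup.eq.1 h1
  obtain ⟨c, hc, hz⟩ := exists_scalar hF h2
  have h3 : ∀ x, ac (tt hg m' n') x = c • ac (tt hg m n) x := by
    intro x
    have h4 : tt hg m' n' = tt hg m n * ((tt hg m n)⁻¹ * tt hg m' n') := by group
    rw [h4, act_mul, hz, act_smul]
  have k : ∀ i : Fin 3, (![(-θ) ^ (m' : ℕ), (-θ) ^ (5 * (m' : ℕ) + n'), (-θ) ^ (5 * (n' : ℕ))] : Fin 3 → F) i =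
      c * (![(-θ) ^ (m : ℕ), (-θ) ^ (5 * (m : ℕ) + n), (-θ) ^ (5 * (n : ℕ))] : Fin 3 → F) i := by
    intro i
    have := congrFun (h3 (Pi.single i 1)) i
    rw [act_tt, act_tt] at this
    simpa using this
  have k0 : (-θ) ^ (m' : ℕ) = c * (-θ) ^ (m : ℕ) := k 0
  have k1 : (-θ) ^ (5 * (m' : ℕ) + n') = c * (-θ) ^ (5 * (m : ℕ) + n) := k 1
  have k2 : (-θ) ^ (5 * (n' : ℕ)) = c * (-θ) ^ (5 * (n : ℕ)) := k 2
  have e1 : (-θ) ^ ((m' : ℕ) + (5 * m + n)) = (-θ) ^ ((m : ℕ) + (5 * m' + n')) := by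
    rw [pow_add _ (m' : ℕ), pow_add _ (m : ℕ), k0, k1]; ring
  have e2 : (-θ) ^ ((m' : ℕ) + 5 * n) = (-θ) ^ ((m : ℕ) + 5 * n') := by
    rw [pow_add _ (m' : ℕ), pow_add _ (m : ℕ), k0, k2]; ring
  have hθ0 : -θ ≠ 0 := by
    intro h0
    have := zeta_six hg
    rw [h0] at this
    norm_num at this
  have hou : orderOf (Units.mk0 (-θ) hθ0) = 6 := by
    rw [← orderOf_units, Units.val_mk0, orderOf_zeta hg hF]
  have hpow : ∀ a b : ℕ, (-θ) ^ a = (-θ) ^ b → a ≡ b [MOD 6] := by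
    intro a b hab
    rw [← hou, ← pow_eq_pow_iff_modEq]
    apply Units.ext
    rw [Units.val_pow_eq_pow_val, Units.val_pow_eq_pow_val, Units.val_mk0, hab]
  replace e1 := hpow _ _ e1
  replace e2 := hpow _ _ e2
  have key : ∀ m m' : Fin 6, ∀ n n' : Fin 2, ((m' : ℕ) + (5 * m + n)) % 6 = ((m : ℕ) + (5 * m' + n')) % 6 →
      ((m' : ℕ) + 5 * n) % 6 = ((m : ℕ) + 5 * n') % 6 → m = m' ∧ n = n' := by decide
  have e3 := key m m' n n' e1 e2
  exact Prod.ext e3.1 e3.2

include hg hF in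
/-- signed permutation matrices in `SU_3(5)` -/
theorem exists_perm {j : Fin 3 → Fin 3} (hinj : Function.Injective j) :
    ∃ w : SU 3 F 5, ∃ s : F, s ≠ 0 ∧ ∀ i, ac w (Pi.single i 1) = s • Pi.single (j i) 1 := by
  obtain ⟨C, hCS, hC⟩ := exists_SU hg hF (m := mpc) (by decide +kernel)
  obtain ⟨T, hTS, hT⟩ := exists_SU hg hF (m := mps) (by decide +kernel)
  have h5 : (5 : F) = 0 := by
    have := cast_p hg
    simp only [c5] at this
    exact_mod_cast this
  have e4 : ev θ ((4, 0) : K) = -1 := by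
    simp [ev]; linear_combination h5
  have e10 : ev θ ((1, 0) : K) = 1 := ev_one hg
  have e00 : ev θ ((0, 0) : K) = 0 := ev_zero hg
  let cp : Fin 3 → Fin 3 := ![1, 2, 0]
  let tpm : Fin 3 → Fin 3 := ![1, 0, 2]
  have s1 : ∀ i, (C : Matrix (Fin 3) (Fin 3) F) *ᵥ Pi.single i 1 = Pi.single (cp i) 1 := by
    intro i
    rw [hC, Matrix.mulVec_single_one]
    ext k
    fin_cases i <;> fin_cases k <;> simp [toM, toV, mpc, e10, e00, Matrix.col, cp]
  have s2 : ∀ i, (T : Matrix (Fin 3) (Fin 3) F) *ᵥ Pi.single i 1 = (-1 : F) • Pi.single (tpm i) 1 := by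
    intro i
    rw [hT, Matrix.mulVec_single_one]
    ext k
    fin_cases i <;> fin_cases k <;> simp [toM, toV, mps, e4, e00, Matrix.col, tpm]
  have s3 : ∀ (k : ℕ) i, ((C ^ k : GL (Fin 3) F) : Matrix (Fin 3) (Fin 3) F) *ᵥ Pi.single i 1 =
      Pi.single (cp^[k] i) 1 := by
    intro k i
    induction k with
    | zero => rw [pow_zero, Units.val_one, Matrix.one_mulVec]; rfl
    | succ k ih =>
      rw [pow_succ', Units.val_mul, ← Matrix.mulVec_mulVec, ih, s1, Function.iterate_succ_apply']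
  have s4 : ∀ (k : ℕ) i, ((T ^ k : GL (Fin 3) F) : Matrix (Fin 3) (Fin 3) F) *ᵥ Pi.single i 1 =
      (-1 : F) ^ k • Pi.single (tpm^[k] i) 1 := by
    intro k i
    induction k with
    | zero => rw [pow_zero, Units.val_one, Matrix.one_mulVec, pow_zero, one_smul]; rfl
    | succ k ih =>
      rw [pow_succ', Units.val_mul, ← Matrix.mulVec_mulVec, ih, Matrix.mulVec_smul, s2,
        Function.iterate_succ_apply', smul_smul, pow_succ]
  have hperm : ∃ k l : ℕ, ∀ i, j i = cp^[k] (tpm^[l] i) := by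
    have : ∀ j : Fin 3 → Fin 3, Function.Injective j →
        ∃ k : Fin 3, ∃ l : Fin 2, ∀ i, j i = (![1, 2, 0] : Fin 3 → Fin 3)^[(k : ℕ)] ((![1, 0, 2] : Fin 3 → Fin 3)^[(l : ℕ)] i) := by
      decide
    obtain ⟨k, l, h⟩ := this j hinj
    exact ⟨k, l, h⟩
  obtain ⟨k, l, hkl⟩ := hperm
  obtain ⟨w, hw⟩ : ∃ w, w = C ^ k * T ^ l := ⟨_, rfl⟩
  have hwS : w ∈ Cfsg.Agent.H918.SUg 3 F 5 := by
    rw [hw]
    exact (Cfsg.Agent.H918.SUg 3 F 5).mul_mem ((Cfsg.Agent.H918.SUg 3 F 5).pow_mem hCS _)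
      ((Cfsg.Agent.H918.SUg 3 F 5).pow_mem hTS _)
  have hwi : ∀ i, (w : Matrix (Fin 3) (Fin 3) F) *ᵥ Pi.single i 1 = (-1 : F) ^ l • Pi.single (j i) 1 := by
    intro i
    rw [hw, Units.val_mul, ← Matrix.mulVec_mulVec, s4, Matrix.mulVec_smul, s3, ← hkl]
  obtain ⟨w', rfl⟩ := Cfsg.Agent.H918.exists_suHom hwS
  exact ⟨w', (-1) ^ l, pow_ne_zero _ (neg_ne_zero.2 one_ne_zero), hwi⟩

include hF in
theorem pr_vs_ne (k : Fin 3) : pr 3 F 5 (vs F k) ≠ 1 := by
  intro h
  have h1 : vs F k ∈ Subgroup.center (SU 3 F 5) := (QuotientGroup.eq_one_iff _).1 h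
  have h2 := Cfsg.Agent.GTwoOdd.Core.HFiveB.pow_three_of_center hF (by decide) h1
  have h3 : vs F k = 1 := by
    calc vs F k = vs F k ^ 3 * (vs F k * vs F k)⁻¹ := by rw [pow_succ, pow_two]; group
      _ = 1 := by rw [h2, vs_mul_self]; group
  obtain ⟨j, hj⟩ : ∃ j : Fin 3, j ≠ k := exists_ne _
  have h4 := congrFun (act_vs (F := F) k (Pi.single j 1)) j
  rw [h3, act_one] at h4
  simp only [Pi.single_eq_same, if_neg hj] at h4
  apply two_ne hF
  linear_combination h4

end invol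

section main

variable {F : Type*} [Field F] [Fintype F] {G : Type*} [Group G] [Finite G]

/-- the automorphism of `PSU_3(5)` induced by an element of `G` -/
def al (T : Subgroup G) [T.Normal] (e : T ≃* PSU 3 F 5) : G →* MulAut (PSU 3 F 5) :=
  (MulAut.congr e).toMonoidHom.comp MulAut.conjNormal

theorem al_apply (T : Subgroup G) [T.Normal] (e : T ≃* PSU 3 F 5) (g : G) (x : PSU 3 F 5) :
    al T e g x = e (MulAut.conjNormal g (e.symm x)) := rfl

theorem al_coe (T : Subgroup G) [T.Normal] (e : T ≃* PSU 3 F 5) (t : T) :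
    al T e (t : G) = MulAut.conj (e t) := by
  ext x
  rw [al_apply, MulAut.conj_apply]
  have : MulAut.conjNormal (t : G) (e.symm x) = t * e.symm x * t⁻¹ := Subtype.ext rfl
  rw [this, map_mul, map_mul, e.apply_symm_apply, map_inv]

/-- **The main lemma**: `V` in standard position. -/
theorem core (hF : Fintype.card F = 5 ^ 2) (T : Subgroup G) [T.Normal] (e : T ≃* PSU 3 F 5)
    {A V : Subgroup G} (hmax : IsCoatom A) (hVT : V ≤ T) (hN : Subgroup.normalizer (V : Set G) = A)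
    (hVs : ∀ t : T, (t : G) ∈ V ↔ e t = 1 ∨ ∃ k, e t = pr 3 F 5 (vs F k))
    (hCV : Nat.card (Subgroup.centralizer (V : Set G)) ≤ 24) : False := by
  obtain ⟨θ, hg⟩ := exists_good5 hF
  have h32 : ¬ (3 = 3 ∧ 5 = 2) := by decide
  have hperm : ∀ g ∈ A, ∀ k, ∃ l, al T e g (pr 3 F 5 (vs F k)) = pr 3 F 5 (vs F l) := by
    intro g hgA k
    have h1 : ((e.symm (pr 3 F 5 (vs F k)) : T) : G) ∈ V := by
      rw [hVs, e.apply_symm_apply]
      exact Or.inr ⟨k, rfl⟩
    have h2 : ((MulAut.conjNormal g (e.symm (pr 3 F 5 (vs F k))) : T) : G) ∈ V := by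
      rw [MulAut.conjNormal_apply]
      rw [← hN] at hgA
      exact (Subgroup.mem_normalizer_iff.1 hgA _).1 h1
    rw [hVs, ← al_apply] at h2
    rcases h2 with h2 | h2
    · exfalso
      apply pr_vs_ne hF k
      exact (al T e g).injective (by rw [h2, map_one])
    · exact h2
  have hfix : ∀ h : G, (∀ k, al T e h (pr 3 F 5 (vs F k)) = pr 3 F 5 (vs F k)) →
      h ∈ Subgroup.centralizer (V : Set G) := by
    intro h hh
    rw [Subgroup.mem_centralizer_iff]
    intro x hx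
    have h1 : al T e h (e ⟨x, hVT hx⟩) = e ⟨x, hVT hx⟩ := by
      rcases (hVs ⟨x, hVT hx⟩).1 hx with h2 | ⟨k, h2⟩
      · rw [h2, map_one]
      · rw [h2, hh]
    rw [al_apply, e.symm_apply_apply] at h1
    have h2 := congrArg Subtype.val (e.injective h1)
    rw [MulAut.conjNormal_apply] at h2
    have h3 : h * x * h⁻¹ = x := h2
    rw [mul_inv_eq_iff_eq_mul] at h3
    exact h3.symm
  -- linear elements
  have htwo : ∀ g ∈ A, ∀ M : GU 3 F 5, al T e g = toAut M 1 → (gm M).det ^ 2 = 1 := by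
    intro g hgA M hM
    obtain ⟨j, hj⟩ := isMono_of_perm hF (A := M) (ρ := 1) (by rw [← hM]; exact hperm g hgA)
    obtain ⟨w, s, hs, hw⟩ := exists_perm hg hF (IsMono.injective hj)
    set D : GU 3 F 5 := (gu w)⁻¹ * M with hD
    have hdet : (gm M).det = (gm D).det := by
      have h1 : M = gu w * D := by rw [hD]; group
      rw [h1, det_gm_mul, det_gu, one_mul]
    have hDd : ∀ i, ∃ b : F, gm D *ᵥ Pi.single i 1 = b • Pi.single i 1 := by
      intro i
      obtain ⟨a, ha⟩ := hj i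
      refine ⟨a * s⁻¹, ?_⟩
      apply mul_inj_gm (gu w)
      rw [hD, gm_mul, ← Matrix.mulVec_mulVec, gm_mulVec_inv, Matrix.mulVec_smul]
      have h1 : gm (gu w) *ᵥ Pi.single i 1 = s • Pi.single (j i) 1 := hw i
      have h2 : gm M *ᵥ Pi.single i 1 = a • Pi.single (j i) 1 := ha
      rw [h1, h2, smul_smul, mul_assoc, inv_mul_cancel₀ hs, mul_one]
    set t : T := e.symm (pr 3 F 5 w) with ht
    set h : G := (t : G)⁻¹ * g with hh
    have hal : al T e h = toAut D 1 := by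
      rw [hh, map_mul, map_inv, al_coe, ht, e.apply_symm_apply, conj_pr, hM, hD]
      have h1 : toAut ((gu w)⁻¹ * M) 1 = toAut (gu w)⁻¹ 1 * toAut M 1 := map_mul Cfsg.Agent.Schreier.PSU.f₁ _ _
      have h2 : toAut (gu w)⁻¹ 1 = (toAut (gu w) 1)⁻¹ := map_inv Cfsg.Agent.Schreier.PSU.f₁ _
      rw [h1, h2]
    set C : Subgroup G := Subgroup.centralizer (V : Set G) with hC
    have hhC : h ∈ C := hfix h (fun k => by rw [hal]; exact toAut_diag hDd k)
    -- the index of `T ∩ C` in `C`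
    have h12 : 12 ≤ Nat.card (T.subgroupOf C) := by
      set Q : Subgroup (PSU 3 F 5) := ((C.subgroupOf T).map e.toMonoidHom) with hQ
      have h1 : 12 ≤ Nat.card Q := by
        apply twelve_le (θ := θ) hg hF
        intro m n
        refine ⟨e.symm (pr 3 F 5 (tt hg m n)), ?_, e.apply_symm_apply _⟩
        show ((e.symm (pr 3 F 5 (tt hg m n)) : T) : G) ∈ C
        apply hfix
        intro k
        rw [al_coe, e.apply_symm_apply, conj_pr]
        apply toAut_diag
        intro i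
        refine ⟨(![(-θ) ^ m, (-θ) ^ (5 * m + n), (-θ) ^ (5 * n)] : Fin 3 → F) i, ?_⟩
        change ac (tt hg m n) (Pi.single i 1) = _
        rw [act_tt]
        funext l
        rcases eq_or_ne l i with rfl | hl
        · simp
        · simp [hl]
      rw [hQ, Subgroup.card_map_of_injective e.injective] at h1
      have h2 : Nat.card (T.subgroupOf C) = Nat.card (C.subgroupOf T) := by
        rw [← Subgroup.card_map_of_injective (K := T.subgroupOf C) C.subtype_injective,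
          ← Subgroup.card_map_of_injective (K := C.subgroupOf T) T.subtype_injective,
          Subgroup.subgroupOf_map_subtype, Subgroup.subgroupOf_map_subtype, inf_comm]
      rw [h2]
      exact h1
    have hidx := (T.subgroupOf C).card_mul_index
    have hidx2 : (T.subgroupOf C).index ≤ 2 := by
      by_contra hcon
      push Not at hcon
      have h1 : 12 * 3 ≤ Nat.card (T.subgroupOf C) * (T.subgroupOf C).index := Nat.mul_le_mul h12 hcon
      omega
    have hidx0 : (T.subgroupOf C).index ≠ 0 := Subgroup.index_ne_zero_of_finite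
    have hsq : h * h ∈ T := by
      have hn : (T.subgroupOf C).Normal := inferInstance
      have h1 := Subgroup.pow_index_mem (T.subgroupOf C) (⟨h, hhC⟩ : C)
      have h2 : (T.subgroupOf C).index = 1 ∨ (T.subgroupOf C).index = 2 := by omega
      rcases h2 with h2 | h2
      · rw [h2, pow_one] at h1
        exact mul_mem h1 h1
      · rw [h2, pow_two] at h1
        exact h1
    have h3 : al T e (h * h) = toAut (D * D) 1 := by
      rw [map_mul, hal]
      exact (map_mul Cfsg.Agent.Schreier.PSU.f₁ D D).symm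
    obtain ⟨y, hy⟩ := pr_surjective (e ⟨h * h, hsq⟩)
    have h4 : al T e (h * h) = toAut (gu y) 1 := by
      rw [← conj_pr, hy]
      exact al_coe T e ⟨h * h, hsq⟩
    obtain ⟨-, c, hc, hcy⟩ := eq_of_toAut_eq hF le_rfl (h3.symm.trans h4)
    have h5 : c ^ 3 * (gm (D * D)).det = 1 := by
      rw [← det_gu y, hcy, Matrix.det_smul, Fintype.card_fin]
    have h6 : (gm D).det ^ 6 = 1 := Cfsg.Agent.ClassicalGeometry.GUBasic.det_pow hF (fun u v => D.2 u v)
    have h7 : c ^ 6 = 1 := by rw [← hc]; ring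
    rw [det_gm_mul] at h5
    rw [hdet]
    set d := (gm D).det
    have h8 : d ^ 4 = 1 := by
      calc d ^ 4 = c ^ 6 * d ^ 4 := by rw [h7, one_mul]
        _ = (c ^ 3 * (d * d)) ^ 2 := by ring
        _ = 1 := by rw [h5, one_pow]
    calc d ^ 2 = d ^ 2 * d ^ 4 := by rw [h8, mul_one]
      _ = d ^ 6 := by ring
      _ = 1 := h6
  -- the choice of the translate
  obtain ⟨c, hc, hchoice⟩ : ∃ (c : F) (_ : c ^ 6 = 1), ∀ g ∈ A, ∀ (M : GU 3 F 5) (ρ : F ≃+* F),
      al T e g = toAut M ρ → ((gm M).det * ρ c) ^ 2 = c ^ 2 := by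
    by_cases hall : ∀ g ∈ A, ∀ (M : GU 3 F 5) (ρ : F ≃+* F), al T e g = toAut M ρ → ρ = 1
    · refine ⟨1, one_pow _, fun g hgA M ρ h => ?_⟩
      obtain rfl := hall g hgA M ρ h
      rw [map_one, mul_one, one_pow]
      exact htwo g hgA M h
    · push Not at hall
      obtain ⟨g₀, hg₀, M₀, φ, h₀, hφ⟩ := hall
      have hφ5 : ∀ x, φ x = x ^ 5 := (aut_cases hF φ).resolve_left hφ
      have hd6 : (gm M₀).det ^ 6 = 1 :=
        Cfsg.Agent.ClassicalGeometry.GUBasic.det_pow hF (fun u v => M₀.2 u v)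
      have hinv := det_gm_inv M₀
      set d₀ := (gm M₀).det
      refine ⟨d₀ ^ 2, by rw [← pow_mul, mul_comm, pow_mul, hd6, one_pow], ?_⟩
      intro g hgA M ρ h
      rcases aut_cases hF ρ with rfl | hρ
      · have h1 := htwo g hgA M h
        have h2 : (1 : F ≃+* F) (d₀ ^ 2) = d₀ ^ 2 := rfl
        rw [h2, mul_pow, h1, one_mul]
      · have hρφ : ρ = φ := RingEquiv.ext (fun x => by rw [hρ, hφ5])
        subst hρφ
        have h1 : al T e (g * g₀⁻¹) = toAut (M * M₀⁻¹) 1 := by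
          have h2 : toAut (M * M₀⁻¹) 1 = Cfsg.Agent.Schreier.PSU.f₁ M * (Cfsg.Agent.Schreier.PSU.f₁ M₀)⁻¹ := by
            rw [← map_inv, ← map_mul]
            rfl
          rw [map_mul, map_inv, h, h₀, Cfsg.Agent.Schreier.PSU.toAut_eq, Cfsg.Agent.Schreier.PSU.toAut_eq M₀, h2]
          group
        have h2 := htwo _ (A.mul_mem hgA (A.inv_mem hg₀)) _ h1
        rw [det_gm_mul, mul_pow] at h2
        have h3 : (gm M).det ^ 2 = d₀ ^ 2 := by
          calc (gm M).det ^ 2 = (gm M).det ^ 2 * ((gm M₀⁻¹).det * d₀) ^ 2 := by rw [hinv, one_pow, mul_one]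
            _ = ((gm M).det ^ 2 * (gm M₀⁻¹).det ^ 2) * d₀ ^ 2 := by ring
            _ = d₀ ^ 2 := by rw [h2, one_mul]
        rw [hφ5, mul_pow, h3]
        calc d₀ ^ 2 * ((d₀ ^ 2) ^ 5) ^ 2 = (d₀ ^ 6) ^ 3 * (d₀ ^ 2) ^ 2 := by ring
          _ = (d₀ ^ 2) ^ 2 := by rw [hd6, one_pow, one_mul]
  -- the overgroup
  set P := StP (XI θ c hc) with hP
  set K : Subgroup G := (P.comap e.toMonoidHom).map T.subtype with hK
  have hmemK : ∀ t : T, (t : G) ∈ K ↔ e t ∈ P := by
    intro t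
    constructor
    · rintro ⟨t', ht', htt⟩
      rw [← Subtype.ext (a1 := t') (a2 := t) htt]
      exact ht'
    · intro ht
      exact ⟨t, ht, rfl⟩
  have hKT : K ≤ T := Subgroup.map_subtype_le _
  have hconj : ∀ g ∈ A, ∀ x ∈ K, g * x * g⁻¹ ∈ K := by
    rintro g hgA x hx
    obtain ⟨M, ρ, hM⟩ := Cfsg.Agent.ClassicalGeometry.PSUAutMain.exists_toAut hF le_rfl h32 (al T e g)
    have hmono : IsMono (M : GL (Fin 3) F) := isMono_of_perm hF (A := M) (ρ := ρ) (by rw [← hM]; exact hperm g hgA)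
    have h1 := (hmemK ⟨x, hKT hx⟩).1 hx
    have h2 : toAut M ρ (e ⟨x, hKT hx⟩) ∈ P :=
      toAut_mem_StP M ρ (S_mem_XI hg hF hmono (hchoice g hgA M ρ hM)) h1
    rw [← hM, al_apply, e.symm_apply_apply] at h2
    have h3 := (hmemK _).2 h2
    rwa [MulAut.conjNormal_apply] at h3
  have hAK : A ≤ Subgroup.normalizer (K : Set G) := by
    intro g hgA
    rw [Subgroup.mem_normalizer_iff]
    intro x
    refine ⟨hconj g hgA x, fun hx => ?_⟩
    have h1 := hconj g⁻¹ (A.inv_mem hgA) _ hx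
    have h2 : g⁻¹ * (g * x * g⁻¹) * g⁻¹⁻¹ = x := by group
    rwa [h2] at h1
  have hKA : K ≤ A := by
    rcases hAK.eq_or_lt with h | h
    · rw [h]; exact Subgroup.le_normalizer
    · have htop := hmax.2 _ h
      have hKn : K.Normal := Subgroup.normalizer_eq_top_iff.1 htop
      have hsimple : IsSimpleGroup (PSU 3 F 5) := Cfsg.Agent.S0283.result hF 3 le_rfl h32
      have hPn : P.Normal := by
        constructor
        intro x hx y
        obtain ⟨t, rfl⟩ := e.surjective x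
        obtain ⟨u, rfl⟩ := e.surjective y
        have h1 := hKn.conj_mem _ ((hmemK t).2 hx) (u : G)
        have h2 := (hmemK (u * t * u⁻¹)).1 h1
        rwa [map_mul, map_mul, map_inv] at h2
      rcases hPn.eq_bot_or_eq_top with h1 | h1
      · rw [hK, h1]
        rintro x ⟨t, ht, rfl⟩
        have h2 : e t = 1 := ht
        rw [EmbeddingLike.map_eq_one_iff] at h2
        rw [h2, map_one]
        exact A.one_mem
      · exact absurd h1 (StP_ne_top hg hF)
  obtain ⟨g, hgP, hgm⟩ := exists_not_mono (θ := θ) (c := c) (hc := hc) hg hF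
  apply hgm
  apply isMono_of_perm hF (ρ := 1)
  rw [← conj_pr]
  have h1 : ((e.symm (pr 3 F 5 g) : T) : G) ∈ A := hKA ((hmemK _).2 (by rw [e.apply_symm_apply]; exact hgP))
  have h2 := hperm _ h1
  rw [al_coe, e.apply_symm_apply] at h2
  exact h2

end main

end Cfsg.Agent.H817.UThreeFive
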